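import Cfsg.Agent.HN.TSyl
import Cfsg.Agent.KFacts.HN.PCard
import Cfsg.Agent.KFacts.HN.YTrick

-- merged: Cfsg.Agent.KFacts.HN.SylCenter
section

/-!
# The centre of a Sylow 2-subgroup of HN

`center_T`: the centre of the Sylow 2-subgroup `Pc s 14` of the presented Harada-Norton group is `⟨s 0⟩`, of order 2.
-/

set_option autoImplicit false
set_option linter.unusedSectionVars false

namespace Cfsg.Agent.KFacts.HN.SylCenter

open Cfsg.Agent.Lib.PackMat Cfsg.Agent.Lib.PackMatGroup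
open Cfsg.Agent.HN.RepData Cfsg.Agent.HN.Rep Cfsg.Agent.HN.TGroup Cfsg.Agent.HN.PC Cfsg.Agent.HN.TRel Cfsg.Agent.HN.TSyl

theorem k3_0 : checkEq C (cw TL [3, 0]) (cw TL ([] ++ [0, 3])) 0 133 = true := by decide +kernel
theorem k3_1 : checkEq C (cw TL [3, 1]) (cw TL ([] ++ [1, 3])) 0 133 = true := by decide +kernel
theorem k3_2 : checkEq C (cw TL [3, 2]) (cw TL ([] ++ [2, 3])) 0 133 = true := by decide +kernel
theorem k3_4 : checkEq C (cw TL [3, 4]) (cw TL ([] ++ [4, 3])) 0 133 = true := by decide +kernel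
theorem k3_5 : checkEq C (cw TL [3, 5]) (cw TL ([0] ++ [5, 3])) 0 133 = true := by decide +kernel
theorem k3_6 : checkEq C (cw TL [3, 6]) (cw TL ([] ++ [6, 3])) 0 133 = true := by decide +kernel
theorem k3_7 : checkEq C (cw TL [3, 7]) (cw TL ([] ++ [7, 3])) 0 133 = true := by decide +kernel
theorem k3_8 : checkEq C (cw TL [3, 8]) (cw TL ([1] ++ [8, 3])) 0 133 = true := by decide +kernel
theorem k3_9 : checkEq C (cw TL [3, 9]) (cw TL ([] ++ [9, 3])) 0 133 = true := by decide +kernel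
theorem k3_10 : checkEq C (cw TL [3, 10]) (cw TL ([] ++ [10, 3])) 0 133 = true := by decide +kernel
theorem k3_11 : checkEq C (cw TL [3, 11]) (cw TL ([2] ++ [11, 3])) 0 133 = true := by decide +kernel
theorem k4_0 : checkEq C (cw TL [4, 0]) (cw TL ([] ++ [0, 4])) 0 133 = true := by decide +kernel
theorem k4_1 : checkEq C (cw TL [4, 1]) (cw TL ([] ++ [1, 4])) 0 133 = true := by decide +kernel
theorem k4_2 : checkEq C (cw TL [4, 2]) (cw TL ([] ++ [2, 4])) 0 133 = true := by decide +kernel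
theorem k4_3 : checkEq C (cw TL [4, 3]) (cw TL ([] ++ [3, 4])) 0 133 = true := by decide +kernel
theorem k4_5 : checkEq C (cw TL [4, 5]) (cw TL ([] ++ [5, 4])) 0 133 = true := by decide +kernel
theorem k4_6 : checkEq C (cw TL [4, 6]) (cw TL ([0] ++ [6, 4])) 0 133 = true := by decide +kernel

theorem comm_eq_of_rel (hinj : Function.Injective rho) {g i : ℕ} {w : List ℕ} (hg : g < 14) (hi : i < 14)
    (hw : okW 14 w = true) (h : checkEq C (cw TL [g, i]) (cw TL (w ++ [i, g])) 0 133 = true) :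
    s g * s i * (s g)⁻¹ * (s i)⁻¹ = evG TG w := by
  have ok : okW 14 [g, i] = true := by
    change (bif Nat.blt g 14 then (bif Nat.blt i 14 then true else false) else false) = true
    have h1 : Nat.blt g 14 = true := by simpa [Nat.blt_eq] using hg
    have h2 : Nat.blt i 14 = true := by simpa [Nat.blt_eq] using hi
    rw [h1, h2]; rfl
  have ok' : okW 14 [i, g] = true := by
    change (bif Nat.blt i 14 then (bif Nat.blt g 14 then true else false) else false) = true
    have h1 : Nat.blt g 14 = true := by simpa [Nat.blt_eq] using hg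
    have h2 : Nat.blt i 14 = true := by simpa [Nat.blt_eq] using hi
    rw [h1, h2]; rfl
  have h1 := rel hinj ok (okW_append hw ok') h
  have h2 : s g * s i = evG TG w * (s i * s g) := by
    have e1 : evG TG [g, i] = s g * s i := by rw [evG_cons', evG_cons', evG_nil, mul_one]
    have e2 : evG TG [i, g] = s i * s g := by rw [evG_cons', evG_cons', evG_nil, mul_one]
    rw [← e1, ← e2, ← evG_append]
    exact h1
  rw [h2]; group

section

variable (hinj : Function.Injective rho) [Finite Cfsg.Spor.HN]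
include hinj

/-- a commutator with top letter `m` is not in `Pc s l`, `l ≤ m` -/
theorem comm_notMem {g i l m : ℕ} {w : List ℕ} (hg : g < 14) (hi : i < 14) (hm : m < 14) (hlm : l ≤ m)
    (hw : okW m w = true)
    (h : checkEq C (cw TL [g, i]) (cw TL ((w ++ [m]) ++ [i, g])) 0 133 = true) :
    s g * s i * (s g)⁻¹ * (s i)⁻¹ ∉ Pc s l := by
  have hmm : okW 14 [m] = true := by
    change (bif Nat.blt m 14 then true else false) = true
    have h1 : Nat.blt m 14 = true := by simpa [Nat.blt_eq] using hm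
    rw [h1]; rfl
  rw [comm_eq_of_rel hinj hg hi (okW_append (okW_mono hm.le hw) hmm) h]
  intro h1
  have h2 := Pc_mono hlm h1
  rw [evG_append, evG_cons', evG_nil, mul_one] at h2
  exact notMem hinj hm ((Subgroup.mul_mem_cancel_left _ (evG_mem_Pc hw)).1 h2)

omit [Finite Cfsg.Spor.HN] in
/-- commutators with a fixed element -/
theorem comm_Pc {k l : ℕ} (hk : k ≤ 14) (hl : l ≤ 14) {a : Cfsg.Spor.HN}
    (h1 : ∀ i < k, a * s i * a⁻¹ * (s i)⁻¹ ∈ Pc s l) : ∀ y ∈ Pc s k, a * y * a⁻¹ * y⁻¹ ∈ Pc s l := by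
  intro y hy
  have hk' : Pc s k ≤ Pc s 14 := Pc_mono hk
  unfold Pc at hy
  induction hy using Subgroup.closure_induction with
  | mem x hx =>
    obtain ⟨i, hi, rfl⟩ := hx
    exact h1 i hi
  | one =>
    have : a * 1 * a⁻¹ * 1⁻¹ = 1 := by group
    rw [this]; exact one_mem _
  | mul x y hx hy ihx ihy =>
    have : a * (x * y) * a⁻¹ * (x * y)⁻¹ = (a * x * a⁻¹ * x⁻¹) * (x * (a * y * a⁻¹ * y⁻¹) * x⁻¹) := by group
    rw [this]
    exact mul_mem ihx (norm hinj hl (hk' hx) ihy)
  | inv x hx ihx =>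
    have : a * x⁻¹ * a⁻¹ * x⁻¹⁻¹ = x⁻¹ * (a * x * a⁻¹ * x⁻¹)⁻¹ * x⁻¹⁻¹ := by group
    rw [this]
    exact norm hinj hl (inv_mem (hk' hx)) (inv_mem ihx)

/-- an element of `Pc s (k + 1)` commuting with `a` lies in `Pc s k` -/
theorem descend {k l : ℕ} (hk : k < 14) (hl : l ≤ 14) {a : Cfsg.Spor.HN}
    (h1 : ∀ i < k, a * s i * a⁻¹ * (s i)⁻¹ ∈ Pc s l) (h2 : a * s k * a⁻¹ * (s k)⁻¹ ∉ Pc s l)
    {x : Cfsg.Spor.HN} (hx : x ∈ Pc s (k + 1)) (hc : x * a = a * x) : x ∈ Pc s k := by
  rcases (step hinj hk).mem hx with h | h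
  · exact h
  · exfalso
    have h3 := comm_Pc hinj hk.le hl h1 _ h
    set y := x * (s k)⁻¹ with hy
    have hxy : x = y * s k := by rw [hy]; group
    have h4 : (a * y * a⁻¹ * y⁻¹) * (y * (a * s k * a⁻¹ * (s k)⁻¹) * y⁻¹) = 1 := by
      have h5 : (a * y * a⁻¹ * y⁻¹) * (y * (a * s k * a⁻¹ * (s k)⁻¹) * y⁻¹) = a * (y * s k) * a⁻¹ * (y * s k)⁻¹ := by
        group
      rw [h5, ← hxy, ← hc]; group
    have h6 : y * (a * s k * a⁻¹ * (s k)⁻¹) * y⁻¹ ∈ Pc s l := by
      rw [eq_inv_of_mul_eq_one_right h4]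
      exact inv_mem h3
    have h7 := norm hinj hl (inv_mem (Pc_mono hk.le h)) h6
    apply h2
    have h8 : y⁻¹ * (y * (a * s k * a⁻¹ * (s k)⁻¹) * y⁻¹) * y⁻¹⁻¹ = a * s k * a⁻¹ * (s k)⁻¹ := by group
    rwa [h8] at h7


theorem d1 {x : Cfsg.Spor.HN} (hx : x ∈ Pc s 2) (hc : x * s 12 = s 12 * x) : x ∈ Pc s 1 := by
  have h1 : ∀ i < 1, s 12 * s i * (s 12)⁻¹ * (s i)⁻¹ ∈ Pc s 0
    | 0, _ => comm_mem_of_rel hinj (w := []) (by norm_num) (by norm_num) (by norm_num) (by decide) k12_0
  exact descend hinj (k := 1) (l := 0) (a := s 12) (by norm_num) (by norm_num) h1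
    (comm_notMem hinj (g := 12) (i := 1) (l := 0) (m := 0) (w := []) (by norm_num) (by norm_num)
      (by norm_num) (by norm_num) (by decide) k12_1) hx hc

theorem d2 {x : Cfsg.Spor.HN} (hx : x ∈ Pc s 3) (hc : x * s 13 = s 13 * x) : x ∈ Pc s 2 := by
  have h1 : ∀ i < 2, s 13 * s i * (s 13)⁻¹ * (s i)⁻¹ ∈ Pc s 0
    | 0, _ => comm_mem_of_rel hinj (w := []) (by norm_num) (by norm_num) (by norm_num) (by decide) k13_0
    | 1, _ => comm_mem_of_rel hinj (w := []) (by norm_num) (by norm_num) (by norm_num) (by decide) k13_1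
  exact descend hinj (k := 2) (l := 0) (a := s 13) (by norm_num) (by norm_num) h1
    (comm_notMem hinj (g := 13) (i := 2) (l := 0) (m := 1) (w := []) (by norm_num) (by norm_num)
      (by norm_num) (by norm_num) (by decide) k13_2) hx hc

theorem d3 {x : Cfsg.Spor.HN} (hx : x ∈ Pc s 4) (hc : x * s 11 = s 11 * x) : x ∈ Pc s 3 := by
  have h1 : ∀ i < 3, s 11 * s i * (s 11)⁻¹ * (s i)⁻¹ ∈ Pc s 0
    | 0, _ => comm_mem_of_rel hinj (w := []) (by norm_num) (by norm_num) (by norm_num) (by decide) k11_0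
    | 1, _ => comm_mem_of_rel hinj (w := []) (by norm_num) (by norm_num) (by norm_num) (by decide) k11_1
    | 2, _ => comm_mem_of_rel hinj (w := []) (by norm_num) (by norm_num) (by norm_num) (by decide) k11_2
  exact descend hinj (k := 3) (l := 0) (a := s 11) (by norm_num) (by norm_num) h1
    (comm_notMem hinj (g := 11) (i := 3) (l := 0) (m := 2) (w := []) (by norm_num) (by norm_num)
      (by norm_num) (by norm_num) (by decide) k11_3) hx hc

theorem d4 {x : Cfsg.Spor.HN} (hx : x ∈ Pc s 5) (hc : x * s 10 = s 10 * x) : x ∈ Pc s 4 := by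
  have h1 : ∀ i < 4, s 10 * s i * (s 10)⁻¹ * (s i)⁻¹ ∈ Pc s 0
    | 0, _ => comm_mem_of_rel hinj (w := []) (by norm_num) (by norm_num) (by norm_num) (by decide) k10_0
    | 1, _ => comm_mem_of_rel hinj (w := []) (by norm_num) (by norm_num) (by norm_num) (by decide) k10_1
    | 2, _ => comm_mem_of_rel hinj (w := []) (by norm_num) (by norm_num) (by norm_num) (by decide) k10_2
    | 3, _ => comm_mem_of_rel hinj (w := []) (by norm_num) (by norm_num) (by norm_num) (by decide) k10_3
  exact descend hinj (k := 4) (l := 0) (a := s 10) (by norm_num) (by norm_num) h1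
    (comm_notMem hinj (g := 10) (i := 4) (l := 0) (m := 2) (w := [1]) (by norm_num) (by norm_num)
      (by norm_num) (by norm_num) (by decide) k10_4) hx hc

theorem d5 {x : Cfsg.Spor.HN} (hx : x ∈ Pc s 6) (hc : x * s 13 = s 13 * x) : x ∈ Pc s 5 := by
  have h1 : ∀ i < 5, s 13 * s i * (s 13)⁻¹ * (s i)⁻¹ ∈ Pc s 2
    | 0, _ => comm_mem_of_rel hinj (w := []) (by norm_num) (by norm_num) (by norm_num) (by decide) k13_0
    | 1, _ => comm_mem_of_rel hinj (w := []) (by norm_num) (by norm_num) (by norm_num) (by decide) k13_1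
    | 2, _ => comm_mem_of_rel hinj (w := [1]) (by norm_num) (by norm_num) (by norm_num) (by decide) k13_2
    | 3, _ => comm_mem_of_rel hinj (w := []) (by norm_num) (by norm_num) (by norm_num) (by decide) k13_3
    | 4, _ => comm_mem_of_rel hinj (w := []) (by norm_num) (by norm_num) (by norm_num) (by decide) k13_4
  exact descend hinj (k := 5) (l := 2) (a := s 13) (by norm_num) (by norm_num) h1
    (comm_notMem hinj (g := 13) (i := 5) (l := 2) (m := 4) (w := []) (by norm_num) (by norm_num)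
      (by norm_num) (by norm_num) (by decide) k13_5) hx hc

theorem d6 {x : Cfsg.Spor.HN} (hx : x ∈ Pc s 7) (hc : x * s 4 = s 4 * x) : x ∈ Pc s 6 := by
  have h1 : ∀ i < 6, s 4 * s i * (s 4)⁻¹ * (s i)⁻¹ ∈ Pc s 0
    | 0, _ => comm_mem_of_rel hinj (w := []) (by norm_num) (by norm_num) (by norm_num) (by decide) k4_0
    | 1, _ => comm_mem_of_rel hinj (w := []) (by norm_num) (by norm_num) (by norm_num) (by decide) k4_1
    | 2, _ => comm_mem_of_rel hinj (w := []) (by norm_num) (by norm_num) (by norm_num) (by decide) k4_2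
    | 3, _ => comm_mem_of_rel hinj (w := []) (by norm_num) (by norm_num) (by norm_num) (by decide) k4_3
    | 4, _ => comm_self _ _
    | 5, _ => comm_mem_of_rel hinj (w := []) (by norm_num) (by norm_num) (by norm_num) (by decide) k4_5
  exact descend hinj (k := 6) (l := 0) (a := s 4) (by norm_num) (by norm_num) h1
    (comm_notMem hinj (g := 4) (i := 6) (l := 0) (m := 0) (w := []) (by norm_num) (by norm_num)
      (by norm_num) (by norm_num) (by decide) k4_6) hx hc

theorem d7 {x : Cfsg.Spor.HN} (hx : x ∈ Pc s 8) (hc : x * s 10 = s 10 * x) : x ∈ Pc s 7 := by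
  have h1 : ∀ i < 7, s 10 * s i * (s 10)⁻¹ * (s i)⁻¹ ∈ Pc s 3
    | 0, _ => comm_mem_of_rel hinj (w := []) (by norm_num) (by norm_num) (by norm_num) (by decide) k10_0
    | 1, _ => comm_mem_of_rel hinj (w := []) (by norm_num) (by norm_num) (by norm_num) (by decide) k10_1
    | 2, _ => comm_mem_of_rel hinj (w := []) (by norm_num) (by norm_num) (by norm_num) (by decide) k10_2
    | 3, _ => comm_mem_of_rel hinj (w := []) (by norm_num) (by norm_num) (by norm_num) (by decide) k10_3
    | 4, _ => comm_mem_of_rel hinj (w := [1, 2]) (by norm_num) (by norm_num) (by norm_num) (by decide) k10_4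
    | 5, _ => comm_mem_of_rel hinj (w := [0, 1]) (by norm_num) (by norm_num) (by norm_num) (by decide) k10_5
    | 6, _ => comm_mem_of_rel hinj (w := [0]) (by norm_num) (by norm_num) (by norm_num) (by decide) k10_6
  exact descend hinj (k := 7) (l := 3) (a := s 10) (by norm_num) (by norm_num) h1
    (comm_notMem hinj (g := 10) (i := 7) (l := 3) (m := 6) (w := [0]) (by norm_num) (by norm_num)
      (by norm_num) (by norm_num) (by decide) k10_7) hx hc

theorem d8 {x : Cfsg.Spor.HN} (hx : x ∈ Pc s 9) (hc : x * s 12 = s 12 * x) : x ∈ Pc s 8 := by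
  have h1 : ∀ i < 8, s 12 * s i * (s 12)⁻¹ * (s i)⁻¹ ∈ Pc s 1
    | 0, _ => comm_mem_of_rel hinj (w := []) (by norm_num) (by norm_num) (by norm_num) (by decide) k12_0
    | 1, _ => comm_mem_of_rel hinj (w := [0]) (by norm_num) (by norm_num) (by norm_num) (by decide) k12_1
    | 2, _ => comm_mem_of_rel hinj (w := [0]) (by norm_num) (by norm_num) (by norm_num) (by decide) k12_2
    | 3, _ => comm_mem_of_rel hinj (w := [0]) (by norm_num) (by norm_num) (by norm_num) (by decide) k12_3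
    | 4, _ => comm_mem_of_rel hinj (w := [0]) (by norm_num) (by norm_num) (by norm_num) (by decide) k12_4
    | 5, _ => comm_mem_of_rel hinj (w := []) (by norm_num) (by norm_num) (by norm_num) (by decide) k12_5
    | 6, _ => comm_mem_of_rel hinj (w := []) (by norm_num) (by norm_num) (by norm_num) (by decide) k12_6
    | 7, _ => comm_mem_of_rel hinj (w := []) (by norm_num) (by norm_num) (by norm_num) (by decide) k12_7
  exact descend hinj (k := 8) (l := 1) (a := s 12) (by norm_num) (by norm_num) h1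
    (comm_notMem hinj (g := 12) (i := 8) (l := 1) (m := 5) (w := [0, 1]) (by norm_num) (by norm_num)
      (by norm_num) (by norm_num) (by decide) k12_8) hx hc

theorem d9 {x : Cfsg.Spor.HN} (hx : x ∈ Pc s 10) (hc : x * s 12 = s 12 * x) : x ∈ Pc s 9 := by
  have h1 : ∀ i < 9, s 12 * s i * (s 12)⁻¹ * (s i)⁻¹ ∈ Pc s 6
    | 0, _ => comm_mem_of_rel hinj (w := []) (by norm_num) (by norm_num) (by norm_num) (by decide) k12_0
    | 1, _ => comm_mem_of_rel hinj (w := [0]) (by norm_num) (by norm_num) (by norm_num) (by decide) k12_1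
    | 2, _ => comm_mem_of_rel hinj (w := [0]) (by norm_num) (by norm_num) (by norm_num) (by decide) k12_2
    | 3, _ => comm_mem_of_rel hinj (w := [0]) (by norm_num) (by norm_num) (by norm_num) (by decide) k12_3
    | 4, _ => comm_mem_of_rel hinj (w := [0]) (by norm_num) (by norm_num) (by norm_num) (by decide) k12_4
    | 5, _ => comm_mem_of_rel hinj (w := []) (by norm_num) (by norm_num) (by norm_num) (by decide) k12_5
    | 6, _ => comm_mem_of_rel hinj (w := []) (by norm_num) (by norm_num) (by norm_num) (by decide) k12_6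
    | 7, _ => comm_mem_of_rel hinj (w := []) (by norm_num) (by norm_num) (by norm_num) (by decide) k12_7
    | 8, _ => comm_mem_of_rel hinj (w := [0, 1, 5]) (by norm_num) (by norm_num) (by norm_num) (by decide) k12_8
  exact descend hinj (k := 9) (l := 6) (a := s 12) (by norm_num) (by norm_num) h1
    (comm_notMem hinj (g := 12) (i := 9) (l := 6) (m := 6) (w := [0, 3]) (by norm_num) (by norm_num)
      (by norm_num) (by norm_num) (by decide) k12_9) hx hc

theorem d10 {x : Cfsg.Spor.HN} (hx : x ∈ Pc s 11) (hc : x * s 13 = s 13 * x) : x ∈ Pc s 10 := by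
  have h1 : ∀ i < 10, s 13 * s i * (s 13)⁻¹ * (s i)⁻¹ ∈ Pc s 5
    | 0, _ => comm_mem_of_rel hinj (w := []) (by norm_num) (by norm_num) (by norm_num) (by decide) k13_0
    | 1, _ => comm_mem_of_rel hinj (w := []) (by norm_num) (by norm_num) (by norm_num) (by decide) k13_1
    | 2, _ => comm_mem_of_rel hinj (w := [1]) (by norm_num) (by norm_num) (by norm_num) (by decide) k13_2
    | 3, _ => comm_mem_of_rel hinj (w := []) (by norm_num) (by norm_num) (by norm_num) (by decide) k13_3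
    | 4, _ => comm_mem_of_rel hinj (w := []) (by norm_num) (by norm_num) (by norm_num) (by decide) k13_4
    | 5, _ => comm_mem_of_rel hinj (w := [4]) (by norm_num) (by norm_num) (by norm_num) (by decide) k13_5
    | 6, _ => comm_mem_of_rel hinj (w := [3]) (by norm_num) (by norm_num) (by norm_num) (by decide) k13_6
    | 7, _ => comm_mem_of_rel hinj (w := []) (by norm_num) (by norm_num) (by norm_num) (by decide) k13_7
    | 8, _ => comm_mem_of_rel hinj (w := [1]) (by norm_num) (by norm_num) (by norm_num) (by decide) k13_8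
    | 9, _ => comm_mem_of_rel hinj (w := [1]) (by norm_num) (by norm_num) (by norm_num) (by decide) k13_9
  exact descend hinj (k := 10) (l := 5) (a := s 13) (by norm_num) (by norm_num) h1
    (comm_notMem hinj (g := 13) (i := 10) (l := 5) (m := 9) (w := [1]) (by norm_num) (by norm_num)
      (by norm_num) (by norm_num) (by decide) k13_10) hx hc

theorem d11 {x : Cfsg.Spor.HN} (hx : x ∈ Pc s 12) (hc : x * s 3 = s 3 * x) : x ∈ Pc s 11 := by
  have h1 : ∀ i < 11, s 3 * s i * (s 3)⁻¹ * (s i)⁻¹ ∈ Pc s 2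
    | 0, _ => comm_mem_of_rel hinj (w := []) (by norm_num) (by norm_num) (by norm_num) (by decide) k3_0
    | 1, _ => comm_mem_of_rel hinj (w := []) (by norm_num) (by norm_num) (by norm_num) (by decide) k3_1
    | 2, _ => comm_mem_of_rel hinj (w := []) (by norm_num) (by norm_num) (by norm_num) (by decide) k3_2
    | 3, _ => comm_self _ _
    | 4, _ => comm_mem_of_rel hinj (w := []) (by norm_num) (by norm_num) (by norm_num) (by decide) k3_4
    | 5, _ => comm_mem_of_rel hinj (w := [0]) (by norm_num) (by norm_num) (by norm_num) (by decide) k3_5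
    | 6, _ => comm_mem_of_rel hinj (w := []) (by norm_num) (by norm_num) (by norm_num) (by decide) k3_6
    | 7, _ => comm_mem_of_rel hinj (w := []) (by norm_num) (by norm_num) (by norm_num) (by decide) k3_7
    | 8, _ => comm_mem_of_rel hinj (w := [1]) (by norm_num) (by norm_num) (by norm_num) (by decide) k3_8
    | 9, _ => comm_mem_of_rel hinj (w := []) (by norm_num) (by norm_num) (by norm_num) (by decide) k3_9
    | 10, _ => comm_mem_of_rel hinj (w := []) (by norm_num) (by norm_num) (by norm_num) (by decide) k3_10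
  exact descend hinj (k := 11) (l := 2) (a := s 3) (by norm_num) (by norm_num) h1
    (comm_notMem hinj (g := 3) (i := 11) (l := 2) (m := 2) (w := []) (by norm_num) (by norm_num)
      (by norm_num) (by norm_num) (by decide) k3_11) hx hc

theorem d12 {x : Cfsg.Spor.HN} (hx : x ∈ Pc s 13) (hc : x * s 1 = s 1 * x) : x ∈ Pc s 12 := by
  refine descend hinj (k := 12) (l := 0) (a := s 1) (by norm_num) (by norm_num) ?_ ?_ hx hc
  · intro i hi
    have : s 1 * s i * (s 1)⁻¹ * (s i)⁻¹ = 1 := by rw [← act1 hinj i hi]; group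
    rw [this]; exact one_mem _
  · intro h
    have h1 := comm_notMem hinj (g := 12) (i := 1) (l := 0) (m := 0) (w := []) (by norm_num) (by norm_num)
      (by norm_num) (by norm_num) (by decide) k12_1
    apply h1
    have h2 : s 12 * s 1 * (s 12)⁻¹ * (s 1)⁻¹ = (s 1 * s 12 * (s 1)⁻¹ * (s 12)⁻¹)⁻¹ := by group
    rw [h2]; exact inv_mem h

theorem d13 {x : Cfsg.Spor.HN} (hx : x ∈ Pc s 14) (hc : x * s 12 = s 12 * x) : x ∈ Pc s 13 := by
  have h1 : ∀ i < 13, s 12 * s i * (s 12)⁻¹ * (s i)⁻¹ ∈ Pc s 7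
    | 0, _ => comm_mem_of_rel hinj (w := []) (by norm_num) (by norm_num) (by norm_num) (by decide) k12_0
    | 1, _ => comm_mem_of_rel hinj (w := [0]) (by norm_num) (by norm_num) (by norm_num) (by decide) k12_1
    | 2, _ => comm_mem_of_rel hinj (w := [0]) (by norm_num) (by norm_num) (by norm_num) (by decide) k12_2
    | 3, _ => comm_mem_of_rel hinj (w := [0]) (by norm_num) (by norm_num) (by norm_num) (by decide) k12_3
    | 4, _ => comm_mem_of_rel hinj (w := [0]) (by norm_num) (by norm_num) (by norm_num) (by decide) k12_4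
    | 5, _ => comm_mem_of_rel hinj (w := []) (by norm_num) (by norm_num) (by norm_num) (by decide) k12_5
    | 6, _ => comm_mem_of_rel hinj (w := []) (by norm_num) (by norm_num) (by norm_num) (by decide) k12_6
    | 7, _ => comm_mem_of_rel hinj (w := []) (by norm_num) (by norm_num) (by norm_num) (by decide) k12_7
    | 8, _ => comm_mem_of_rel hinj (w := [0, 1, 5]) (by norm_num) (by norm_num) (by norm_num) (by decide) k12_8
    | 9, _ => comm_mem_of_rel hinj (w := [0, 3, 6]) (by norm_num) (by norm_num) (by norm_num) (by decide) k12_9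
    | 10, _ => comm_mem_of_rel hinj (w := [0, 1, 3]) (by norm_num) (by norm_num) (by norm_num) (by decide) k12_10
    | 11, _ => comm_mem_of_rel hinj (w := [0, 1, 2, 4, 5]) (by norm_num) (by norm_num) (by norm_num) (by decide) k12_11
    | 12, _ => comm_self _ _
  exact descend hinj (k := 13) (l := 7) (a := s 12) (by norm_num) (by norm_num) h1
    (comm_notMem hinj (g := 12) (i := 13) (l := 7) (m := 7) (w := []) (by norm_num) (by norm_num)
      (by norm_num) (by norm_num) (by decide) k12_13) hx hc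

/-- **The centre of the Sylow 2-subgroup** -/
theorem center_T {x : Cfsg.Spor.HN} (hx : x ∈ Pc s 14) (hc : ∀ y ∈ Pc s 14, x * y = y * x) : x ∈ Pc s 1 := by
  have c : ∀ i < 14, x * s i = s i * x := fun i hi => hc _ (mem_Pc hi)
  exact d1 hinj (d2 hinj (d3 hinj (d4 hinj (d5 hinj (d6 hinj (d7 hinj (d8 hinj (d9 hinj (d10 hinj (d11 hinj
    (d12 hinj (d13 hinj hx (c 12 (by norm_num))) (c 1 (by norm_num))) (c 3 (by norm_num))) (c 13 (by norm_num)))
    (c 12 (by norm_num))) (c 12 (by norm_num))) (c 10 (by norm_num))) (c 4 (by norm_num))) (c 13 (by norm_num)))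
    (c 10 (by norm_num))) (c 11 (by norm_num))) (c 13 (by norm_num))) (c 12 (by norm_num))

end

end Cfsg.Agent.KFacts.HN.SylCenter

end

-- merged: Cfsg.Agent.KFacts.HN.Classes
section

/-!
# Involutions and Sylow 2-subgroups of HN

* `sylow_center`: the centre of a Sylow 2-subgroup is generated by a conjugate of `W0`;
* `odd_index`: the centraliser of `W0` has odd index;
* `inv_class`: an involution is conjugate to `ψ τ` or to `W0` (not to both: `not_isConj`);
* `card_centralizer_τ`: `|C(ψ τ)| = 177408000`;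
* `isConj_x2_of`: the involutions `u` of `C(W0)` outside of `R` with `u`, `u W0` conjugate to `W0` form one class of
  `C(W0)`.
-/

set_option autoImplicit false

namespace Cfsg.Agent.KFacts.HN.Classes

open Cfsg.Agent.HN.Pres Cfsg.Agent.HN.P1408 Cfsg.Agent.HN.H0Basic Cfsg.Agent.HN.XMat
open Cfsg.Agent.HN.XStruct Cfsg.Agent.HN.XWords Cfsg.Agent.HN.XQuot Cfsg.Agent.HN.FusGen Cfsg.Agent.HN.XInst
open Cfsg.Agent.HN.TGroup Cfsg.Agent.HN.PC Cfsg.Agent.HN.TSyl
open Cfsg.Agent.KFacts.HN.PCard Cfsg.Agent.KFacts.HN.YTrick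
open scoped commutatorElement Pointwise

theorem s0_eq : s 0 = W0 := W0_eq_t0.symm

theorem comm_T {x : Cfsg.Spor.HN} (hx : x ∈ Pc s 14) : x * W0 = W0 * x := by
  have h := Cfsg.Agent.HN.TSyl.central hinj hx
  rw [s0_eq, commutatorElement_eq_one_iff_mul_comm] at h
  exact h

theorem T_le : Pc s 14 ≤ Subgroup.centralizer ({W0} : Set Cfsg.Spor.HN) := fun _ hx =>
  Subgroup.mem_centralizer_singleton_iff.2 (comm_T hx)

theorem W0_mem_T : W0 ∈ Pc s 14 := by rw [← s0_eq]; exact mem_Pc (by norm_num)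

theorem eq_of_mem_Pc1 {x : Cfsg.Spor.HN} (hx : x ∈ Pc s 1) : x = 1 ∨ x = W0 := by
  rcases (step hinj (k := 0) (by norm_num)).mem hx with h | h
  · rw [Pc_zero, Subgroup.mem_bot] at h
    exact Or.inl h
  · rw [Pc_zero, Subgroup.mem_bot, mul_inv_eq_one, s0_eq] at h
    exact Or.inr h

theorem card_HN : Nat.card Cfsg.Spor.HN = 273030912000000 := Cfsg.Agent.S1701.result.2

theorem fac2 : (Nat.card Cfsg.Spor.HN).factorization 2 = 14 := by
  rw [card_HN, show (273030912000000 : ℕ) = 2 ^ 14 * 16664484375 by norm_num]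
  have h2 : (16664484375 : ℕ).factorization 2 = 0 := Nat.factorization_eq_zero_of_not_dvd (by norm_num)
  rw [Nat.factorization_mul (by norm_num) (by norm_num), Nat.Prime.factorization_pow Nat.prime_two,
    Finsupp.add_apply, h2, Finsupp.single_eq_same]

instance instFinite : Finite Cfsg.Spor.HN := finite_HN

/-- the Sylow 2-subgroup -/
noncomputable def T : Sylow 2 Cfsg.Spor.HN := Sylow.ofCard (Pc s 14) (by rw [fac2]; exact card_Pc14 hinj)

theorem mem_T {x : Cfsg.Spor.HN} : x ∈ T ↔ x ∈ Pc s 14 := Iff.rfl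

/-- **The centre of a Sylow 2-subgroup** -/
theorem sylow_center (S : Sylow 2 Cfsg.Spor.HN) : ∃ z : Cfsg.Spor.HN, IsConj W0 z ∧ z ∈ S ∧
    (∀ y ∈ S, y * z = z * y) ∧ ∀ x ∈ S, (∀ y ∈ S, y * x = x * y) → x = 1 ∨ x = z := by
  obtain ⟨g, rfl⟩ := MulAction.exists_smul_eq Cfsg.Spor.HN T S
  have key : ∀ x : Cfsg.Spor.HN, x ∈ g • T ↔ g⁻¹ * x * g ∈ Pc s 14 := by
    intro x
    change x ∈ ((g • T : Sylow 2 Cfsg.Spor.HN) : Subgroup Cfsg.Spor.HN) ↔ _
    rw [Sylow.coe_subgroup_smul, Subgroup.mem_pointwise_smul_iff_inv_smul_mem]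
    have e : (MulAut.conj g)⁻¹ • x = g⁻¹ * x * g := by
      rw [MulAut.smul_def, MulAut.conj_inv_apply]
    rw [e]
    rfl
  refine ⟨g * W0 * g⁻¹, isConj_iff.2 ⟨g, rfl⟩, ?_, ?_, ?_⟩
  · rw [key]
    have e : g⁻¹ * (g * W0 * g⁻¹) * g = W0 := by group
    rw [e]
    exact W0_mem_T
  · intro y hy
    rw [key] at hy
    have h := comm_T hy
    calc y * (g * W0 * g⁻¹) = g * ((g⁻¹ * y * g) * W0) * g⁻¹ := by group
      _ = g * (W0 * (g⁻¹ * y * g)) * g⁻¹ := by rw [h]
      _ = g * W0 * g⁻¹ * y := by group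
  · intro x hx hc
    rw [key] at hx
    have h1 : g⁻¹ * x * g ∈ Pc s 1 := by
      apply SylCenter.center_T hinj hx
      intro y hy
      have hy' : g * y * g⁻¹ ∈ g • T := by
        rw [key]
        have e : g⁻¹ * (g * y * g⁻¹) * g = y := by group
        rwa [e]
      have h := hc _ hy'
      calc g⁻¹ * x * g * y = g⁻¹ * (x * (g * y * g⁻¹)) * g := by group
        _ = g⁻¹ * (g * y * g⁻¹ * x) * g := by rw [h]
        _ = y * (g⁻¹ * x * g) := by group
    rcases eq_of_mem_Pc1 h1 with h | h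
    · left
      calc x = g * (g⁻¹ * x * g) * g⁻¹ := by group
        _ = 1 := by rw [h]; group
    · right
      rw [← h]; group

/-- **The centraliser of `W0` has odd index** -/
theorem odd_index : Odd (Subgroup.centralizer ({W0} : Set Cfsg.Spor.HN)).index := by
  have h1 := (Subgroup.centralizer ({W0} : Set Cfsg.Spor.HN)).card_mul_index
  rw [card_centralizer, card_HN] at h1
  have h2 : (Subgroup.centralizer ({W0} : Set Cfsg.Spor.HN)).index = 74064375 := by omega
  rw [h2]
  decide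

/-- **Classes of involutions** -/
theorem inv_class {u : Cfsg.Spor.HN} (hu : orderOf u = 2) :
    IsConj u (Cfsg.Agent.HN.NormalH.ψ τ) ∨ IsConj u W0 := by
  have h1 : IsPGroup 2 (Subgroup.zpowers u) := IsPGroup.of_card (n := 1) (by rw [Nat.card_zpowers, hu, pow_one])
  obtain ⟨S, hS⟩ := h1.exists_le_sylow
  obtain ⟨z, hz, _, hzc, _⟩ := sylow_center S
  have h2 : u * z = z * u := hzc u (hS (Subgroup.mem_zpowers u))
  obtain ⟨c, rfl⟩ := isConj_iff.1 hz
  have h3 : (c⁻¹ * u * c) * W0 = W0 * (c⁻¹ * u * c) := by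
    calc (c⁻¹ * u * c) * W0 = c⁻¹ * (u * (c * W0 * c⁻¹)) * c := by group
      _ = c⁻¹ * (c * W0 * c⁻¹ * u) * c := by rw [h2]
      _ = W0 * (c⁻¹ * u * c) := by group
  have h4 : orderOf (c⁻¹ * u * c) = 2 := by
    have e : c⁻¹ * u * c = MulAut.conj c⁻¹ u := by rw [MulAut.conj_apply, inv_inv]
    rw [e, MulEquiv.orderOf_eq, hu]
  have h5 : IsConj u (c⁻¹ * u * c) := isConj_iff.2 ⟨c⁻¹, by group⟩
  rw [W0_eq] at h3
  have h6 := Cfsg.Agent.HN.XFinal.inv_w inst (c⁻¹ * u * c) h4 h3
  rw [← W0_eq] at h6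
  exact h6.imp h5.trans h5.trans

theorem not_isConj : ¬ IsConj (Cfsg.Agent.HN.NormalH.ψ τ) W0 := by
  rw [W0_eq]
  exact hb

theorem centralizer_τ : Subgroup.centralizer ({Cfsg.Agent.HN.NormalH.ψ τ} : Set Cfsg.Spor.HN) =
    Cfsg.Agent.HN.NormalH.H := by
  apply le_antisymm
  · intro g hg
    rw [Subgroup.mem_centralizer_singleton_iff] at hg
    obtain ⟨h, rfl⟩ := emb.cent g hg
    rw [← Cfsg.Agent.HN.NormalH.range_ψ]
    exact ⟨h, rfl⟩
  · intro g hg
    rw [← Cfsg.Agent.HN.NormalH.range_ψ] at hg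
    obtain ⟨h, rfl⟩ := hg
    rw [Subgroup.mem_centralizer_singleton_iff, ← map_mul, ← map_mul, emb.comm h]

/-- **The order of the centraliser of `ψ τ`** -/
theorem card_centralizer_τ :
    Nat.card (Subgroup.centralizer ({Cfsg.Agent.HN.NormalH.ψ τ} : Set Cfsg.Spor.HN)) = 177408000 := by
  rw [centralizer_τ]
  exact Cfsg.Agent.HN.NormalH.card_H finite_H0 card_H0_le Cfsg.Agent.HN.XSq.hx_sq_ne

/-! ### the class of `x2` in `C(W0)` -/

theorem π_ev (m : ℕ) (w : List ℕ) : π W0 (r Q m * evw Γ w) = r k m * evw γ w :=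
  P_nf (θ := MonoidHom.id Cfsg.Spor.HN) m w

theorem π_evw (w : List ℕ) : π W0 (evw Γ w) = evw γ w := P_evw (θ := MonoidHom.id Cfsg.Spor.HN) w

theorem r28 : r Q 28 * x2 = x2 * W0 * r Q 28 := by
  rw [← V_rmw, x2, W0, ← V_append, ← V_append, ← V_append]
  exact V_eq (by decide +kernel)

/-- the third representative -/
def x3 : Cfsg.Spor.HN := V x3w

theorem x3_nf : x3 = r Q 92 * evw Γ [0, 1, 0, 1, 1] := x3_eq.symm

theorem x3_comm : x3 * W0 = W0 * x3 := by
  rw [x3, W0, ← V_append, ← V_append]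
  exact V_eq (by decide +kernel)

theorem isConj_x3 : IsConj (Cfsg.Agent.HN.NormalH.ψ τ) x3 := by
  have h1 : IsConj (Cfsg.Agent.HN.NormalH.ψ τ) (Cfsg.Agent.HN.NormalH.ψ gz) := hz
  have h2 := Cfsg.Agent.HN.NormalH.ψ.map_isConj conj_e
  have h3 : Cfsg.Agent.HN.NormalH.ψ (hw x3w) = x3 := V_hw (by decide +kernel)
  rw [h3] at h2
  exact h1.trans h2

theorem mul_comm_W0 (m : ℕ) : r Q m * W0 * W0 = W0 * (r Q m * W0) := by
  rw [← mul_assoc, cwr]

theorem isConj_comm {u v s : Cfsg.Spor.HN} (h : s * u * s⁻¹ = v) : IsConj u v := isConj_iff.2 ⟨s, h⟩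

/-- **The involutions `u` of `C(W0)` outside of `R` with `u ~ W0 ~ u W0` are conjugate in `C(W0)` to `x2`.** -/
theorem isConj_x2_of {u : Cfsg.Spor.HN} (hsq : u * u = 1) (hc : u * W0 = W0 * u) (h1 : IsConj W0 u)
    (h2 : IsConj W0 (u * W0)) (hR : ∀ m < 256, u ≠ r Q m ∧ u ≠ r Q m * W0) :
    ∃ p : Cfsg.Spor.HN, p * W0 = W0 * p ∧ p * u * p⁻¹ = x2 := by
  have hsq' : π W0 u * π W0 u = 1 := by rw [← π_mul hc hc, hsq, π_one]
  have conj : ∀ (v : KK W0) (y : Cfsg.Spor.HN), y * W0 = W0 * y → v * π W0 u * v⁻¹ = π W0 y →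
      ∃ s : Cfsg.Spor.HN, s * W0 = W0 * s ∧ (s * u * s⁻¹ = y ∨ s * u * s⁻¹ = y * W0) := by
    intro v y hy hv
    obtain ⟨s, hs, rfl⟩ := π_surj v
    have h3 : π W0 (s * u * s⁻¹) = π W0 y := by
      rw [π_mul (comm_mul hs hc) (comm_inv hs), π_mul hs hc, π_inv hs, hv]
    exact ⟨s, hs, (π_eq_iff W0_sq hy (comm_mul (comm_mul hs hc) (comm_inv hs))).1 h3.symm⟩
  rcases Cfsg.Agent.HN.XClose.involution_cases hyp disj hsq' with h | ⟨v, h | h | h⟩
  · exfalso
    obtain ⟨m, hm, he⟩ := h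
    have h3 : π W0 (r Q m) = r k m := P_r (θ := MonoidHom.id Cfsg.Spor.HN) m
    rw [← h3] at he
    rcases (π_eq_iff W0_sq (cwr m).symm hc).1 he.symm with h4 | h4
    · exact (hR m hm).1 h4
    · exact (hR m hm).2 h4
  · exfalso
    have e : xi1 γ = π W0 (evw Γ [0, 2, 0, 2, 0, 2]) := (π_evw _).symm
    rw [e] at h
    obtain ⟨s, hs, h4⟩ := conj v _ (cwe _).symm h
    have h5 : (s * u * s⁻¹) * (s * u * s⁻¹) = 1 := by
      calc (s * u * s⁻¹) * (s * u * s⁻¹) = s * (u * u) * s⁻¹ := by group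
        _ = 1 := by rw [hsq]; group
    have h6 : (s * u * s⁻¹) * (s * u * s⁻¹) = W0 := by
      rcases h4 with h4 | h4
      · rw [h4, yh6]
      · rw [h4]
        have hce := cwe [0, 2, 0, 2, 0, 2]
        calc evw Γ [0, 2, 0, 2, 0, 2] * W0 * (evw Γ [0, 2, 0, 2, 0, 2] * W0)
            = evw Γ [0, 2, 0, 2, 0, 2] * (W0 * evw Γ [0, 2, 0, 2, 0, 2]) * W0 := by group
          _ = (evw Γ [0, 2, 0, 2, 0, 2] * evw Γ [0, 2, 0, 2, 0, 2]) * (W0 * W0) := by rw [hce]; group
          _ = W0 := by rw [yh6, W0_sq, mul_one]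
    exact W0_ne_one (h6.symm.trans h5)
  · have e : xi2 k γ = π W0 x2 := by
      rw [x2_eq_nf]
      exact (π_ev _ _).symm
    rw [e] at h
    obtain ⟨s, hs, h4 | h4⟩ := conj v _ x2_comm h
    · exact ⟨s, hs, h4⟩
    · refine ⟨r Q 28 * s, comm_mul (cwr 28).symm hs, ?_⟩
      have h5 : r Q 28 * (x2 * W0) = x2 * r Q 28 := by
        have hw := cwr 28
        calc r Q 28 * (x2 * W0) = (r Q 28 * x2) * W0 := by group
          _ = x2 * (W0 * r Q 28) * W0 := by rw [r28]; group
          _ = x2 * r Q 28 * (W0 * W0) := by rw [hw]; group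
          _ = x2 * r Q 28 := by rw [W0_sq, mul_one]
      calc r Q 28 * s * u * (r Q 28 * s)⁻¹ = r Q 28 * (s * u * s⁻¹) * (r Q 28)⁻¹ := by group
        _ = x2 := by rw [h4, h5, mul_inv_cancel_right]
  · exfalso
    have e : xi3 k γ = π W0 x3 := by
      rw [x3_nf]
      exact (π_ev _ _).symm
    rw [e] at h
    obtain ⟨s, hs, h4 | h4⟩ := conj v _ x3_comm h
    · exact not_isConj (isConj_x3.trans ((isConj_comm h4).symm.trans h1.symm))
    · have h5 : s * (u * W0) * s⁻¹ = x3 := by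
        have hs' := comm_inv hs
        calc s * (u * W0) * s⁻¹ = s * u * (W0 * s⁻¹) := by group
          _ = (s * u * s⁻¹) * W0 := by rw [← hs']; group
          _ = x3 * (W0 * W0) := by rw [h4]; group
          _ = x3 := by rw [W0_sq, mul_one]
      exact not_isConj (isConj_x3.trans ((isConj_comm h5).symm.trans h2.symm))

theorem x2_mul_W0 : r Q 28 * x2 * (r Q 28)⁻¹ = x2 * W0 := by rw [r28, mul_inv_cancel_right]

theorem isConj_x2W0 : IsConj W0 (x2 * W0) := isConj_x2.trans (isConj_comm x2_mul_W0)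

theorem x2_notR : ∀ m < 256, x2 ≠ r Q m ∧ x2 ≠ r Q m * W0 := by
  intro m hm
  have key : π W0 x2 ≠ r k m := by
    intro h
    have h2 : Acts k (xi2 k γ) M2 := hyp.acts_xi2
    have e : xi2 k γ = π W0 x2 := by
      rw [x2_eq_nf]
      exact (π_ev _ _).symm
    rw [e, h] at h2
    have h3 : Acts k (r k m) MI := by
      have h4 := hyp.toBas.acts_rmul (x := 1) Bas.acts_one m
      rwa [mul_one] at h4
    have h5 := hyp.toBas.acts_unique h2 h3 (i := 2) (by norm_num)
    exact absurd h5 (by decide +kernel)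
  have hP : π W0 (r Q m) = r k m := P_r (θ := MonoidHom.id Cfsg.Spor.HN) m
  constructor
  · intro h
    exact key (by rw [h, hP])
  · intro h
    exact key (by rw [h, π_mul_w W0_sq (cwr m).symm, hP])

/-- The class of `x2` in `C(W0)`: an intrinsic description -/
theorem isConj_x2_iff {u : Cfsg.Spor.HN} : (∃ p : Cfsg.Spor.HN, p * W0 = W0 * p ∧ p * u * p⁻¹ = x2) ↔
    (u * u = 1 ∧ u * W0 = W0 * u ∧ IsConj W0 u ∧ IsConj W0 (u * W0) ∧ ∀ m < 256, u ≠ r Q m ∧ u ≠ r Q m * W0) := by
  constructor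
  · rintro ⟨p, hp, he⟩
    have hu : u = p⁻¹ * x2 * p := by rw [← he]; group
    have hp' := comm_inv hp
    have hcom : u * W0 = p⁻¹ * (x2 * W0) * p := by
      rw [hu, mul_assoc _ p, hp]; group
    refine ⟨?_, ?_, ?_, ?_, ?_⟩
    · rw [hu]
      calc p⁻¹ * x2 * p * (p⁻¹ * x2 * p) = p⁻¹ * (x2 * x2) * p := by group
        _ = 1 := by rw [x2_sq]; group
    · rw [hcom, x2_comm, hu, ← mul_assoc, hp']; group
    · exact isConj_x2.trans (isConj_comm he).symm
    · refine isConj_x2W0.trans (isConj_iff.2 ⟨p⁻¹, ?_⟩)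
      rw [hcom]; group
    · intro m hm
      -- `R` is normalised by `p`
      have hX : ∀ v : Cfsg.Spor.HN, v * W0 = W0 * v → π W0 v ∈ Cfsg.Agent.HN.XStruct.R hyp.toBas →
          π W0 (p * v * p⁻¹) ∈ Cfsg.Agent.HN.XStruct.R hyp.toBas := by
        intro v hv h
        rw [π_mul (comm_mul hp hv) hp', π_mul hp hv, π_inv hp]
        obtain ⟨m1, _, w, _, w', _, hx⟩ := nf_exists (π W0 p)⁻¹
        have hA : Acts k (π W0 p)⁻¹ (mul (mw w) (mw w')) := by
          rw [hx]
          exact hyp.toBas.acts_mul (hyp.toBas.acts_rmul (hyp.toBas.acts_evw w) m1) (hyp.toBas.acts_evw w')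
        obtain ⟨j, hj, he⟩ := h
        refine ⟨app (mul (mw w) (mw w')) j, app_lt _ _, ?_⟩
        rw [he, ← hyp.toBas.acts_r hA, inv_inv]
      have hRx : π W0 x2 ∉ Cfsg.Agent.HN.XStruct.R hyp.toBas := by
        rintro ⟨j, hj, hx⟩
        have hP : π W0 (r Q j) = r k j := P_r (θ := MonoidHom.id Cfsg.Spor.HN) j
        rw [← hP] at hx
        rcases (π_eq_iff W0_sq (cwr j).symm x2_comm).1 hx.symm with h4 | h4
        · exact (x2_notR j hj).1 h4
        · exact (x2_notR j hj).2 h4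
      have hP : π W0 (r Q m) = r k m := P_r (θ := MonoidHom.id Cfsg.Spor.HN) m
      have hm' : π W0 (r Q m) ∈ Cfsg.Agent.HN.XStruct.R hyp.toBas := ⟨m, hm, hP⟩
      constructor
      · intro h
        apply hRx
        rw [← he, h]
        exact hX _ (cwr m).symm hm'
      · intro h
        apply hRx
        rw [← he, h]
        apply hX _ (mul_comm_W0 m)
        rw [π_mul_w W0_sq (cwr m).symm]
        exact hm'
  · rintro ⟨h1, h2, h3, h4, h5⟩
    exact isConj_x2_of h1 h2 h3 h4 h5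

/-- a perfect subgroup of `C(x2)` containing `W0` -/
def A5' : Subgroup Cfsg.Spor.HN := A5.map (MulAut.conj YTrick.k⁻¹).toMonoidHom

theorem W0_mem_A5' : W0 ∈ A5' := by
  refine ⟨x2, x2_mem, ?_⟩
  change YTrick.k⁻¹ * x2 * YTrick.k⁻¹⁻¹ = W0
  rw [inv_inv, mul_assoc, x2_mul_k, inv_mul_cancel_left]

theorem A5'_le : A5' ≤ Subgroup.centralizer {x2} := by
  rintro _ ⟨u, hu, rfl⟩
  have h1 := Subgroup.mem_centralizer_singleton_iff.1 (A5_le hu)
  rw [Subgroup.mem_centralizer_singleton_iff]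
  change YTrick.k⁻¹ * u * YTrick.k⁻¹⁻¹ * x2 = x2 * (YTrick.k⁻¹ * u * YTrick.k⁻¹⁻¹)
  have h2 : YTrick.k * x2 = W0 * YTrick.k := W0_mul_k.symm
  have h3 : x2 = YTrick.k⁻¹ * W0 * YTrick.k := by rw [mul_assoc, W0_mul_k, inv_mul_cancel_left]
  rw [inv_inv]
  calc YTrick.k⁻¹ * u * YTrick.k * x2 = YTrick.k⁻¹ * (u * W0) * YTrick.k := by rw [mul_assoc _ YTrick.k, h2]; group
    _ = YTrick.k⁻¹ * (W0 * u) * YTrick.k := by rw [h1]
    _ = x2 * (YTrick.k⁻¹ * u * YTrick.k) := by
        have h4 : x2 * (YTrick.k⁻¹ * u * YTrick.k) = (YTrick.k⁻¹ * W0 * YTrick.k) * (YTrick.k⁻¹ * u * YTrick.k) := by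
          rw [← h3]
        rw [h4]
        group

open scoped commutatorElement in
theorem A5'_perfect : ⁅A5', A5'⁆ = A5' := by
  rw [A5', ← Subgroup.map_commutator, A5_perfect]

end Cfsg.Agent.KFacts.HN.Classes

end
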