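import Cfsg.Agent.KFacts.HN.Cards
import Cfsg.Agent.KFacts.HN.Classes
import Cfsg.Agent.KFacts.HN.CentTwoHN
import Cfsg.Agent.KFacts.LargeAut
import Cfsg.Agent.KFacts.LargeE
import Mathlib
import Cfsg.Agent.OddHalf.Clean
import Cfsg.Agent.KFacts.HN.Large

-- merged: Cfsg.Agent.KFacts.HN.Fields
section

/-!
# HN: fields of the fact sheet

* `x2_mem_MM`, `x2_notMem_RS`; `MM_inv`: the involutions of `MM` outside of `RS` are conjugate in `PP` to `x2`;
* `syl_field`, `ytrick_field`: the fields `syl`, `ytrick` of `SheetE W0 MM RS`;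
* `closure_PP_n`: `⟨PP, n⟩ = HN`; `n_q2`, `n_q2_notMem`: `n` maps `Q 2 ∈ RS` to an element of `PP` outside of `MM`.
-/

set_option autoImplicit false

namespace Cfsg.Agent.KFacts.HN.Fields

open Cfsg.Agent.HN.Pres Cfsg.Agent.HN.P1408 Cfsg.Agent.HN.H0Basic Cfsg.Agent.HN.XMat
open Cfsg.Agent.HN.XStruct Cfsg.Agent.HN.XWords Cfsg.Agent.HN.XQuot Cfsg.Agent.HN.XInst
open Cfsg.Agent.KFacts.HN.YTrick (x2 x2_sq x2_comm x2_eq_nf x2_mul_k W0_mul_k)
open Cfsg.Agent.KFacts.HN.CentTwoHN (n z' a)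

theorem mem_MM_re {m : ℕ} {w : List ℕ} (h : e w ∈ LL) : r Q m * evw Γ w ∈ MM := by
  refine mem_MM.2 ⟨PP.mul_mem (r_mem_PP m) (e_mem_PP w), ?_⟩
  rw [ρ_apply]
  change QuotientGroup.mk (s := Rk) (π W0 (r Q m * evw Γ w)) ∈ LL
  rw [π_mul (comm_r m) (comm_e w), π_r, π_e, QuotientGroup.mk_mul]
  have h1 : QuotientGroup.mk (s := Rk) (r k m) = 1 := by
    rw [QuotientGroup.eq_one_iff]
    have h2 := hyp.toBas
    refine mem_Rk.2 ⟨m % 256, Nat.mod_lt _ (by norm_num), ?_⟩
    -- only the eight low bits matter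
    have h3 : ∀ n ≤ 8, rr k m n = rr k (m % 256) n := by
      intro n
      induction n with
      | zero => intro _; rfl
      | succ n ih =>
        intro hn
        have hb : (m % 256).testBit n = m.testBit n := by
          rw [show (256 : ℕ) = 2 ^ 8 by norm_num, Nat.testBit_mod_two_pow]
          have : n < 8 := hn
          simp [this]
        rw [rr_succ, rr_succ, ih (by omega), hb]
    exact h3 8 le_rfl
  rw [h1, one_mul]
  exact h

theorem e_mem_of_MM {m : ℕ} {w : List ℕ} (h : r Q m * evw Γ w ∈ MM) (hm : m < 256) : e w ∈ LL := by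
  obtain ⟨h1, h2⟩ := mem_MM.1 h
  rw [ρ_apply] at h2
  change QuotientGroup.mk (s := Rk) (π W0 (r Q m * evw Γ w)) ∈ LL at h2
  rw [π_mul (comm_r m) (comm_e w), π_r, π_e, QuotientGroup.mk_mul] at h2
  have h3 : QuotientGroup.mk (s := Rk) (r k m) = 1 := by
    rw [QuotientGroup.eq_one_iff]
    exact mem_Rk.2 ⟨m, hm, rfl⟩
  rwa [h3, one_mul] at h2

theorem e_x2 : e [0, 1, 1, 1, 0, 0, 1] ∈ LL := by
  have h1 : e [0, 1, 1, 1, 0, 0, 1] = e [0] * (e [1, 1] * ((e [1] * (e [0] * e [0]) * (e [1])⁻¹) * e [1, 1])) := by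
    have e1 : e [0, 1, 1, 1, 0, 0, 1] = e [0] * (e [1, 1] * (e [1] * (e [0] * (e [0] * e [1])))) := by
      rw [← e_append, ← e_append, ← e_append, ← e_append, ← e_append]; rfl
    have e2 : e [1, 1] = e [1] * e [1] := by rw [← e_append]; rfl
    rw [e1, e2]; group
  rw [h1]
  exact LL.mul_mem e0_mem (LL.mul_mem e11_mem (LL.mul_mem (e1_conj_LL' (LL.mul_mem e0_mem e0_mem)) e11_mem))

theorem x2_mem_MM : x2 ∈ MM := by
  rw [x2_eq_nf]
  exact mem_MM_re e_x2

theorem x2_notMem_RS : x2 ∉ RS := by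
  intro h
  obtain ⟨m, hm, b, hb⟩ := mem_RS.1 h
  obtain ⟨h1, h2⟩ := Classes.x2_notR m hm
  cases b
  · exact h1 (by rw [hb]; exact mul_one _)
  · exact h2 hb

/-- odd words are outside of `MM` -/
theorem odd_notMem {v w : List ℕ} (hv : e v ∈ LL) (hw : e w ∈ LL) : e (v ++ ([1] ++ w)) ∉ LL := by
  intro h
  rw [e_append, e_append] at h
  have h1 := (LL.mul_mem_cancel_right hw).1 ((LL.mul_mem_cancel_left hv).1 h)
  exact e1_notMem h1

theorem x3_notMem_MM : Classes.x3 ∉ MM := by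
  intro h
  rw [Classes.x3_nf] at h
  have h1 : e ([0] ++ ([1] ++ [0, 1, 1])) ∈ LL := e_mem_of_MM h (by norm_num)
  refine odd_notMem e0_mem ?_ h1
  have h2 : e [0, 1, 1] = e [0] * e [1, 1] := by rw [← e_append]; rfl
  rw [h2]
  exact LL.mul_mem e0_mem e11_mem

/-- **The involutions of `MM` outside of `RS` form one class of `PP`.** -/
theorem MM_inv {u : Cfsg.Spor.HN} (hu : u ∈ MM) (hsq : u * u = 1) (hR : u ∉ RS) :
    ∃ p ∈ PP, p * u * p⁻¹ = x2 := by
  have hc : u * W0 = W0 * u := mem_PP.1 (MM_le_PP hu)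
  have hsq' : π W0 u * π W0 u = 1 := by rw [← π_mul hc hc, hsq, π_one]
  have conj : ∀ (v : KK W0) (y : Cfsg.Spor.HN), y * W0 = W0 * y → v * π W0 u * v⁻¹ = π W0 y →
      ∃ s : Cfsg.Spor.HN, s * W0 = W0 * s ∧ (s * u * s⁻¹ = y ∨ s * u * s⁻¹ = y * W0) := by
    intro v y hy hv
    obtain ⟨s, hs, rfl⟩ := π_surj v
    have h3 : π W0 (s * u * s⁻¹) = π W0 y := by
      rw [π_mul (comm_mul hs hc) (comm_inv hs), π_mul hs hc, π_inv hs, hv]
    exact ⟨s, hs, (π_eq_iff W0_sq hy (comm_mul (comm_mul hs hc) (comm_inv hs))).1 h3.symm⟩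
  rcases Cfsg.Agent.HN.XClose.involution_cases hyp disj hsq' with h | ⟨v, h | h | h⟩
  · exfalso
    obtain ⟨m, hm, he⟩ := h
    rw [← π_r] at he
    apply hR
    rw [mem_RS]
    rcases (π_eq_iff W0_sq (cwr m).symm hc).1 he.symm with h4 | h4
    · exact ⟨m, hm, false, h4.trans (mul_one _).symm⟩
    · exact ⟨m, hm, true, h4⟩
  · exfalso
    have e : xi1 γ = π W0 (evw Γ [0, 2, 0, 2, 0, 2]) := (π_e _).symm
    rw [e] at h
    obtain ⟨s, hs, h4⟩ := conj v _ (cwe _).symm h
    have h5 : (s * u * s⁻¹) * (s * u * s⁻¹) = 1 := by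
      calc (s * u * s⁻¹) * (s * u * s⁻¹) = s * (u * u) * s⁻¹ := by group
        _ = 1 := by rw [hsq]; group
    have h6 : (s * u * s⁻¹) * (s * u * s⁻¹) = W0 := by
      rcases h4 with h4 | h4
      · rw [h4, yh6]
      · rw [h4]
        have hce := cwe [0, 2, 0, 2, 0, 2]
        calc evw Γ [0, 2, 0, 2, 0, 2] * W0 * (evw Γ [0, 2, 0, 2, 0, 2] * W0)
            = evw Γ [0, 2, 0, 2, 0, 2] * (W0 * evw Γ [0, 2, 0, 2, 0, 2]) * W0 := by group
          _ = (evw Γ [0, 2, 0, 2, 0, 2] * evw Γ [0, 2, 0, 2, 0, 2]) * (W0 * W0) := by rw [hce]; group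
          _ = W0 := by rw [yh6, W0_sq, mul_one]
    exact W0_ne (h6.symm.trans h5)
  · have e : xi2 k γ = π W0 x2 := by
      rw [x2_eq_nf]
      exact (Classes.π_ev _ _).symm
    rw [e] at h
    obtain ⟨s, hs, h4 | h4⟩ := conj v _ x2_comm h
    · exact ⟨s, mem_PP.2 hs, h4⟩
    · refine ⟨(r Q 28)⁻¹ * s, PP.mul_mem (PP.inv_mem (r_mem_PP 28)) (mem_PP.2 hs), ?_⟩
      have h5 := Classes.x2_mul_W0
      calc (r Q 28)⁻¹ * s * u * ((r Q 28)⁻¹ * s)⁻¹ = (r Q 28)⁻¹ * (s * u * s⁻¹) * r Q 28 := by group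
        _ = (r Q 28)⁻¹ * (r Q 28 * x2 * (r Q 28)⁻¹) * r Q 28 := by rw [h4, ← h5]
        _ = x2 := by group
  · exfalso
    have e : xi3 k γ = π W0 Classes.x3 := by
      rw [Classes.x3_nf]
      exact (Classes.π_ev _ _).symm
    rw [e] at h
    obtain ⟨s, hs, h4⟩ := conj v _ Classes.x3_comm h
    have h5 : s * u * s⁻¹ ∈ MM := conj_MM (mem_PP.2 hs) hu
    apply x3_notMem_MM
    rcases h4 with h4 | h4
    · rwa [h4] at h5
    · rw [h4] at h5
      exact (MM.mul_mem_cancel_right (RS_le_MM W0_mem_RS)).1 h5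

/-- automorphisms of `MM` preserve `RS` -/
theorem aut_RS (β : MulAut MM) {x : MM} (hx : (x : Cfsg.Spor.HN) ∈ RS) : (β x : Cfsg.Spor.HN) ∈ RS := by
  let X : Subgroup Cfsg.Spor.HN := ((RS.subgroupOf MM).map β.toMonoidHom).map MM.subtype
  have h1 : X ≤ RS := by
    apply two_group_le
    · rintro _ ⟨y, _, rfl⟩
      exact MM_le_PP y.2
    · rintro u hu _ ⟨_, ⟨y, hy, rfl⟩, rfl⟩
      refine ⟨⟨u, hu⟩ * β y * ⟨u, hu⟩⁻¹, ⟨β.symm ⟨u, hu⟩ * y * (β.symm ⟨u, hu⟩)⁻¹, ?_, ?_⟩, rfl⟩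
      · have hy' : (y : Cfsg.Spor.HN) ∈ RS := hy
        change ((β.symm ⟨u, hu⟩ * y * (β.symm ⟨u, hu⟩)⁻¹ : MM) : Cfsg.Spor.HN) ∈ RS
        exact conj_RS (MM_le_PP (β.symm ⟨u, hu⟩).2) hy'
      · change β (β.symm ⟨u, hu⟩ * y * (β.symm ⟨u, hu⟩)⁻¹) = ⟨u, hu⟩ * β y * ⟨u, hu⟩⁻¹
        rw [map_mul, map_mul, map_inv, MulEquiv.apply_symm_apply]
    · have h2 : IsPGroup 2 RS := IsPGroup.of_card (n := 9) (by rw [card_RS]; norm_num)
      exact ((h2.of_equiv (Subgroup.subgroupOfEquivOfLe RS_le_MM).symm).map _).map _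
  exact h1 ⟨β x, ⟨x, hx, rfl⟩, rfl⟩

theorem k_conj : YTrick.k * W0 * (YTrick.k)⁻¹ = x2 := by rw [← x2_mul_k, mul_inv_cancel_right]
theorem k_conj' : (YTrick.k)⁻¹ * W0 * YTrick.k = x2 := by rw [mul_assoc, W0_mul_k, inv_mul_cancel_left]

/-- **The field `ytrick`** -/
theorem ytrick_field : ∃ k : Cfsg.Spor.HN, k * W0 * k⁻¹ ∈ MM ∧ k * W0 * k⁻¹ ∉ RS ∧ ∃ hw : k⁻¹ * W0 * k ∈ MM,
    ∀ β : MulAut MM, (β ⟨W0, RS_le_MM W0_mem_RS⟩ : Cfsg.Spor.HN) = W0 →
      ∃ p : Cfsg.Spor.HN, p * W0 = W0 * p ∧ (β ⟨k⁻¹ * W0 * k, hw⟩ : Cfsg.Spor.HN) = p * (k⁻¹ * W0 * k) * p⁻¹ := by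
  refine ⟨YTrick.k, by rw [k_conj]; exact x2_mem_MM, by rw [k_conj]; exact x2_notMem_RS,
    by rw [k_conj']; exact x2_mem_MM, ?_⟩
  intro β _
  have e1 : (⟨(YTrick.k)⁻¹ * W0 * YTrick.k, by rw [k_conj']; exact x2_mem_MM⟩ : MM) = ⟨x2, x2_mem_MM⟩ :=
    Subtype.ext k_conj'
  rw [e1, k_conj']
  have h1 : (β ⟨x2, x2_mem_MM⟩ : Cfsg.Spor.HN) * (β ⟨x2, x2_mem_MM⟩ : Cfsg.Spor.HN) = 1 := by
    have h2 : (⟨x2, x2_mem_MM⟩ : MM) * ⟨x2, x2_mem_MM⟩ = 1 := Subtype.ext x2_sq
    have h3 := congrArg β h2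
    rw [map_mul, map_one] at h3
    exact congrArg Subtype.val h3
  have h2 : (β ⟨x2, x2_mem_MM⟩ : Cfsg.Spor.HN) ∉ RS := by
    intro h
    have h3 := aut_RS β⁻¹ h
    rw [MulAut.inv_apply_self] at h3
    exact x2_notMem_RS h3
  obtain ⟨p, hp, he⟩ := MM_inv (β ⟨x2, x2_mem_MM⟩).2 h1 h2
  refine ⟨p⁻¹, comm_inv (mem_PP.1 hp), ?_⟩
  generalize (β ⟨x2, x2_mem_MM⟩ : Cfsg.Spor.HN) = u at he ⊢
  rw [← he]; group

/-- **The field `syl`** -/
theorem syl_field : ∃ S : Sylow 2 Cfsg.Spor.HN, W0 ∈ S ∧ (∀ x ∈ S, x * W0 = W0 * x) ∧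
    ∀ y ∈ S, (∀ x ∈ S, x * y = y * x) → y = 1 ∨ y = W0 := by
  refine ⟨Classes.T, Classes.W0_mem_T, fun x hx => Classes.comm_T hx, ?_⟩
  intro y hy hc
  have h1 := SylCenter.center_T YTrick.hinj (x := y) hy (fun x hx => (hc x hx).symm)
  exact Classes.eq_of_mem_Pc1 h1

/-- `⟨PP, n⟩ = HN` -/
theorem closure_PP_n : Subgroup.closure ((PP : Set Cfsg.Spor.HN) ∪ {n}) = ⊤ := by
  have h : (PP : Set Cfsg.Spor.HN) = {c : Cfsg.Spor.HN | c * W0 = W0 * c} := by
    ext c
    exact mem_PP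
  rw [h]
  exact CentTwoHN.hgen

theorem n_q2 : n * Q 2 * n⁻¹ = r Q 32 * W0 * evw Γ [0, 1, 0, 1, 0, 1] := by
  rw [mul_inv_eq_iff_eq_mul, n, a, Q, Q, ← V_rmw, ← V_ew, W0, ← V_append, ← V_append, ← V_append, ← V_append,
    ← V_append]
  exact V_eq (by decide +kernel)

theorem n_q2_mem : n * Q 2 * n⁻¹ ∈ PP := by
  rw [n_q2]
  exact PP.mul_mem (PP.mul_mem (r_mem_PP _) W0_mem_PP) (e_mem_PP _)

theorem n_q2_notMem : n * Q 2 * n⁻¹ ∉ MM := by
  rw [n_q2]
  intro h
  have hw := cwr 32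
  have h1 : r Q 32 * W0 * evw Γ [0, 1, 0, 1, 0, 1] = W0 * (r Q 32 * evw Γ [0, 1, 0, 1, 0, 1]) := by
    rw [← hw, mul_assoc]
  rw [h1] at h
  have h2 := (MM.mul_mem_cancel_left (RS_le_MM W0_mem_RS)).1 h
  have h3 : e ([0] ++ ([1] ++ [0, 1, 0, 1])) ∈ LL := e_mem_of_MM h2 (by norm_num)
  refine odd_notMem e0_mem ?_ h3
  have h4 : e [0, 1, 0, 1] = e [0] * ((e [1] * e [0] * (e [1])⁻¹) * e [1, 1]) := by
    have e1 : e [0, 1, 0, 1] = e [0] * (e [1] * (e [0] * e [1])) := by
      rw [← e_append, ← e_append, ← e_append]; rfl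
    have e2 : e [1, 1] = e [1] * e [1] := by rw [← e_append]; rfl
    rw [e1, e2]; group
  rw [h4]
  exact LL.mul_mem e0_mem (LL.mul_mem (e1_conj_LL' e0_mem) e11_mem)

theorem q2_z' : Q 2 * z' = z' * Q 2 := CentTwoHN.q_z' (by norm_num)

end Cfsg.Agent.KFacts.HN.Fields

end

-- merged: Cfsg.Agent.KFacts.LargeIndexTwo
section

/-!
# Automorphisms fixing `z` and trivial on `Q/⟨z⟩`, when `C_K(z)` has a perfect subgroup `M` of index 2

`Large Q z`, `M ≤ C_K(z)` perfect of index at most 2 (HN, J4, Fi24'). `aut0`: an automorphism `α` with `α z = z` which is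
trivial on `Q/⟨z⟩` is the conjugation by an element of `Q`.
`aut`: an automorphism of 2-power order fixing `z` and trivial on `M/Q` is the conjugation by an element of `Q`.
-/

set_option autoImplicit false

namespace Cfsg.Agent.KFacts.LargeIndexTwo

open Cfsg.Agent.Co2Type.Quad Subgroup
open scoped commutatorElement

variable {K : Type*} [Group K] {Q : Subgroup K} {z : K}

/-- an automorphism centralising `Q` moves the elements of `C_K(z)` by `1` or `z` -/
theorem val_of_fix (h : Large Q z) {β : MulAut K} (hβQ : ∀ x ∈ Q, β x = x) {u : K} (hu : u * z = z * u) :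
    β u = u ∨ β u = u * z := by
  have hui : u⁻¹ * z = z * u⁻¹ := by
    rw [inv_mul_eq_iff_eq_mul, ← mul_assoc, hu, mul_assoc, mul_inv_cancel, mul_one]
  have hβz : β z = z := hβQ z h.z_mem
  have hcq : ∀ x ∈ Q, (u⁻¹ * β u) * x = x * (u⁻¹ * β u) := by
    intro x hx
    have h1 : u * x * u⁻¹ ∈ Q := h.conj_mem u hu x hx
    have h2 := hβQ _ h1
    rw [map_mul, map_mul, map_inv, hβQ x hx] at h2
    calc (u⁻¹ * β u) * x = u⁻¹ * (β u * x * (β u)⁻¹) * β u := by group
      _ = u⁻¹ * (u * x * u⁻¹) * β u := by rw [h2]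
      _ = x * (u⁻¹ * β u) := by group
  have hcz : (u⁻¹ * β u) * z = z * (u⁻¹ * β u) := hcq z h.z_mem
  rcases h.cent _ (h.self _ hcz hcq) hcq with h1 | h1
  · left
    exact (inv_mul_eq_one.1 h1).symm
  · right
    exact inv_mul_eq_iff_eq_mul.1 h1

/-- an automorphism centralising `Q` centralises every perfect subgroup of `C_K(z)` -/
theorem fix_perfect (h : Large Q z) {β : MulAut K} (hβQ : ∀ x ∈ Q, β x = x) {M : Subgroup K} (hM : ⁅M, M⁆ = M)
    (hMz : ∀ u ∈ M, u * z = z * u) : ∀ u ∈ M, β u = u := by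
  have hz : ∀ u ∈ M, β u = u ∨ β u = u * z := fun u hu => val_of_fix h hβQ (hMz u hu)
  have h1 : ⁅M, M⁆ ≤ β.toMonoidHom.eqLocus (MonoidHom.id K) := by
    rw [commutator_le]
    intro a ha b hb
    show β ⁅a, b⁆ = ⁅a, b⁆
    have haz := hMz a ha
    have hbz := hMz b hb
    have ci : ∀ {u : K}, u * z = z * u → z * u⁻¹ = u⁻¹ * z := by
      intro u hu
      rw [eq_inv_mul_iff_mul_eq, ← mul_assoc, hu, mul_assoc, mul_inv_cancel, mul_one]
    rw [commutatorElement_def, map_mul, map_mul, map_mul, map_inv, map_inv]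
    have key : ∀ a' b' : K, (a' = a ∨ a' = a * z) → (b' = b ∨ b' = b * z) →
        a' * b' * a'⁻¹ * b'⁻¹ = a * b * a⁻¹ * b⁻¹ := by
      rintro a' b' (rfl | rfl) (rfl | rfl)
      · rfl
      · rw [mul_inv_rev, h.z_inv]
        calc a' * (b * z) * a'⁻¹ * (z * b⁻¹) = a' * b * (z * a'⁻¹) * z * b⁻¹ := by group
          _ = a' * b * a'⁻¹ * (z * z) * b⁻¹ := by rw [ci haz]; group
          _ = a' * b * a'⁻¹ * b⁻¹ := by rw [h.z_sq, mul_one]
      · rw [mul_inv_rev, h.z_inv]
        calc a * z * b' * (z * a⁻¹) * b'⁻¹ = a * (z * b') * z * a⁻¹ * b'⁻¹ := by group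
          _ = a * b' * (z * z) * a⁻¹ * b'⁻¹ := by rw [← hbz]; group
          _ = a * b' * a⁻¹ * b'⁻¹ := by rw [h.z_sq, mul_one]
      · rw [mul_inv_rev, mul_inv_rev, h.z_inv]
        calc a * z * (b * z) * (z * a⁻¹) * (z * b⁻¹) = a * (z * b) * (z * z) * a⁻¹ * z * b⁻¹ := by group
          _ = a * b * (z * a⁻¹) * z * b⁻¹ := by rw [h.z_sq, ← hbz]; group
          _ = a * b * a⁻¹ * (z * z) * b⁻¹ := by rw [ci haz]; group
          _ = a * b * a⁻¹ * b⁻¹ := by rw [h.z_sq, mul_one]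
    exact key _ _ (hz a ha) (hz b hb)
  intro u hu
  rw [← hM] at hu
  exact h1 hu

/-- **Automorphisms trivial on `Q/⟨z⟩`**, `|C_K(z) : M| ≤ 2` with `M` perfect. The last two hypotheses exclude the
automorphisms that multiply the elements outside `M` by `z`. -/
theorem aut0 [Finite K] (h : Large Q z) {M : Subgroup K} (hM : ⁅M, M⁆ = M) (hMz : ∀ u ∈ M, u * z = z * u)
    (hidx : ∀ c d : K, c * z = z * c → d * z = z * d → c ∉ M → d ∉ M → c⁻¹ * d ∈ M) {n z' r0 : K}
    (hn : n * z * n⁻¹ = z') (hn' : n * z' * n⁻¹ = z * z') (hz'Q : z' ∈ Q) (hne : z' ≠ z)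
    (hgen : Subgroup.closure ({c : K | c * z = z * c} ∪ {n}) = ⊤)
    (hr0 : r0 ∈ Q) (hr0z : r0 * z' = z' * r0) (hr0M : n * r0 * n⁻¹ ∉ M)
    (no_tr : ∀ s : K, s * z = z * s →
      (∀ r ∈ Q, r * z' = z' * r → s * r * s⁻¹ = r ∨ s * r * s⁻¹ = r * (z * z')) →
      ∀ r ∈ Q, r * z' = z' * r → s * r * s⁻¹ = r)
    {α : MulAut K} (hz : α z = z) (ht : ∀ x ∈ Q, α x = x ∨ α x = x * z) :
    ∃ y ∈ Q, α = MulAut.conj y := by
  obtain ⟨y, hyQ, hy⟩ := LargeAut.exists_conj_on_Q h α hz ht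
  set β : MulAut K := (MulAut.conj y)⁻¹ * α with hβ
  have hβa : ∀ x, β x = y⁻¹ * α x * y := fun x => by
    rw [hβ, MulAut.mul_apply, ← map_inv, MulAut.conj_apply, inv_inv]
  have hβQ : ∀ x ∈ Q, β x = x := by
    intro x hx
    rw [hβa, hy x hx]; group
  have hβM := fix_perfect h hβQ hM hMz
  -- `β` centralises `C_K(z)`
  have hβC : ∀ u : K, u * z = z * u → β u = u := by
    by_contra hcon
    push Not at hcon
    obtain ⟨c, hc, hcβ⟩ := hcon
    have hcM : c ∉ M := fun hc' => hcβ (hβM c hc')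
    have hcz : β c = c * z := (val_of_fix h hβQ hc).resolve_left hcβ
    have hout : ∀ d : K, d * z = z * d → d ∉ M → β d = d * z := by
      intro d hd hdM
      have h1 := hβM _ (hidx c d hc hd hcM hdM)
      rw [map_mul, map_inv, hcz] at h1
      have h2 : β d = c * z * (c⁻¹ * d) := by
        rw [← h1]; group
      rw [h2]
      calc c * z * (c⁻¹ * d) = (c * z) * c⁻¹ * d := by group
        _ = z * d := by rw [hc]; group
        _ = d * z := hd.symm
    -- `s = n⁻¹ β(n)`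
    set s : K := n⁻¹ * β n with hs
    have hβn : β n = n * s := by rw [hs]; group
    have hsz : s * z = z * s := by
      have h1 : β n * z * (β n)⁻¹ = z' := by
        have h2 := hβQ z' hz'Q
        rw [← hn, map_mul, map_mul, map_inv, hβQ z h.z_mem, hn] at h2
        exact h2
      rw [hβn] at h1
      have h3 : s * z * s⁻¹ = n⁻¹ * (n * s * z * (n * s)⁻¹) * n := by group
      rw [h1] at h3
      have h4 : n⁻¹ * z' * n = z := by rw [← hn]; group
      rw [h4] at h3
      exact mul_inv_eq_iff_eq_mul.1 h3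
    have hcz' : z' * z = z * z' := h.comm_z z' hz'Q
    have h5 : z' * z' = 1 := by
      rw [← hn]
      calc n * z * n⁻¹ * (n * z * n⁻¹) = n * (z * z) * n⁻¹ := by group
        _ = 1 := by rw [h.z_sq]; group
    have h4 : n * (z * z') * n⁻¹ = z := by
      calc n * (z * z') * n⁻¹ = (n * z * n⁻¹) * (n * z' * n⁻¹) := by group
        _ = z' * (z * z') := by rw [hn, hn']
        _ = z' * (z' * z) := by rw [hcz']
        _ = (z' * z') * z := by group
        _ = z := by rw [h5, one_mul]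
    have h2 : n⁻¹ * z * n = z * z' := by
      calc n⁻¹ * z * n = n⁻¹ * (n * (z * z') * n⁻¹) * n := by rw [h4]
        _ = z * z' := by group
    -- conjugates `n r n⁻¹` lie in `C_K(z)`
    have hnr : ∀ r ∈ Q, r * z' = z' * r → (n * r * n⁻¹) * z = z * (n * r * n⁻¹) := by
      intro r hr hrz
      have hr1 : r * z = z * r := h.comm_z r hr
      have h6 : r * (z * z') = z * z' * r := by
        rw [← mul_assoc, hr1, mul_assoc, hrz, mul_assoc]
      calc (n * r * n⁻¹) * z = n * (r * (n⁻¹ * z * n)) * n⁻¹ := by group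
        _ = n * (z * z' * r) * n⁻¹ := by rw [h2, h6]
        _ = n * (n⁻¹ * z * n * r) * n⁻¹ := by rw [h2]
        _ = z * (n * r * n⁻¹) := by group
    have hβr : ∀ r ∈ Q, β (n * r * n⁻¹) = n * (s * r * s⁻¹) * n⁻¹ := by
      intro r hr
      rw [map_mul, map_mul, map_inv, hβQ r hr, hβn]
      group
    have hall := no_tr s hsz (by
      intro r hr hrz
      rcases val_of_fix h hβQ (hnr r hr hrz) with h1 | h1
      · left
        rw [hβr r hr] at h1
        have h6 : s * r * s⁻¹ = n⁻¹ * (n * (s * r * s⁻¹) * n⁻¹) * n := by group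
        rw [h6, h1]; group
      · right
        rw [hβr r hr] at h1
        have h6 : s * r * s⁻¹ = n⁻¹ * (n * (s * r * s⁻¹) * n⁻¹) * n := by group
        rw [h6, h1, ← h2]; group)
    have h1 := hout _ (hnr r0 hr0 hr0z) hr0M
    rw [hβr r0 hr0, hall r0 hr0 hr0z] at h1
    exact h.z_ne (mul_eq_left.1 h1.symm)
  have hzz : n * z * n⁻¹ ∈ Q := by rw [hn]; exact hz'Q
  have hzn : n * z * n⁻¹ ≠ z := by rw [hn]; exact hne
  rcases LargeE.eq_one_or_conj h hzz hzn hgen β hβC with h1 | h1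
  · refine ⟨y, hyQ, ?_⟩
    rw [hβ, inv_mul_eq_one] at h1
    exact h1.symm
  · refine ⟨y * z, Q.mul_mem hyQ h.z_mem, ?_⟩
    rw [map_mul, ← h1, hβ, mul_inv_cancel_left]

/-- **Automorphisms of 2-power order trivial on `M/Q` are trivial on `Q/⟨z⟩`**, if `M` is irreducible on `Q/⟨z⟩`. -/
theorem triv_of_two [Finite K] (h : Large Q z) {M : Subgroup K} (hMz : ∀ u ∈ M, u * z = z * u)
    (hQM : Q ≤ M)
    (hirr : ∀ N : Subgroup K, N ≤ Q → (∀ u ∈ M, ∀ x ∈ N, u * x * u⁻¹ ∈ N) → (∀ x ∈ N, x = 1 ∨ x = z) ∨ N = Q)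
    (hQ : ∃ x ∈ Q, x ≠ 1 ∧ x ≠ z)
    {α : MulAut K} (hp : IsPGroup 2 (zpowers α)) (hz : α z = z) (hM : ∀ x ∈ M, x⁻¹ * α x ∈ Q) :
    ∀ x ∈ Q, α x = x ∨ α x = x * z := by
  classical
  have hαQ : ∀ x ∈ Q, α x ∈ Q := by
    intro x hx
    have h1 := Q.mul_mem hx (hM x (hQM hx))
    rwa [mul_inv_cancel_left] at h1
  -- the subgroup of fixed elements modulo `z`
  let N : Subgroup K :=
    { carrier := {x | x ∈ Q ∧ (α x = x ∨ α x = x * z)}
      one_mem' := ⟨Q.one_mem, Or.inl (map_one α)⟩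
      mul_mem' := by
        rintro x y ⟨hx, hx'⟩ ⟨hy, hy'⟩
        refine ⟨Q.mul_mem hx hy, ?_⟩
        have hyz : y * z = z * y := h.comm_z y hy
        rw [map_mul]
        rcases hx' with h1 | h1 <;> rcases hy' with h2 | h2 <;> rw [h1, h2]
        · left; rfl
        · right; rw [mul_assoc]
        · right; rw [mul_assoc, mul_assoc, ← hyz]
        · left
          calc x * z * (y * z) = x * z * (z * y) := by rw [hyz]
            _ = x * (z * z) * y := by group
            _ = x * y := by rw [h.z_sq, mul_one]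
      inv_mem' := by
        rintro x ⟨hx, hx'⟩
        refine ⟨Q.inv_mem hx, ?_⟩
        rw [map_inv]
        rcases hx' with h1 | h1
        · left; rw [h1]
        · right; rw [h1, mul_inv_rev, h.z_inv]
          exact (h.comm_z _ (Q.inv_mem hx)).symm }
  have hQt : ∀ a ∈ Q, ∀ x ∈ Q, a * x * a⁻¹ = x ∨ a * x * a⁻¹ = x * z := by
    intro a ha x hx
    rcases h.comm a ha x hx with h1 | h1
    · left; rw [h1, mul_inv_cancel_right]
    · right
      have hz' : z * a⁻¹ = a⁻¹ * z := (h.comm_z _ (Q.inv_mem ha)).symm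
      rw [h1, mul_assoc, hz', ← mul_assoc, mul_inv_cancel_right]
  have hN := hirr N (fun y hy => hy.1) (by
    rintro u hu y ⟨hyQ, hy⟩
    have huz := hMz u hu
    refine ⟨h.conj_mem u huz y hyQ, ?_⟩
    have e : α u = u * (u⁻¹ * α u) := by group
    have hyz : z * u⁻¹ = u⁻¹ * z := by
      rw [eq_inv_mul_iff_mul_eq, ← mul_assoc, huz, mul_assoc, mul_inv_cancel, mul_one]
    have e2 : α (u * y * u⁻¹) = u * ((u⁻¹ * α u) * α y * (u⁻¹ * α u)⁻¹) * u⁻¹ := by
      rw [map_mul, map_mul, map_inv]; group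
    rw [e2]
    have h1 : (u⁻¹ * α u) * α y * (u⁻¹ * α u)⁻¹ = y ∨ (u⁻¹ * α u) * α y * (u⁻¹ * α u)⁻¹ = y * z := by
      rcases hQt _ (hM u hu) _ (hαQ y hyQ) with h2 | h2 <;> rcases hy with h3 | h3 <;> rw [h2, h3]
      · left; rfl
      · right; rfl
      · right; rfl
      · left; rw [mul_assoc, h.z_sq, mul_one]
    rcases h1 with h1 | h1 <;> rw [h1]
    · left; rfl
    · right
      calc u * (y * z) * u⁻¹ = u * y * (z * u⁻¹) := by group
        _ = u * y * u⁻¹ * z := by rw [hyz]; group)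
  rcases hN with hN | hN
  · exfalso
    -- a nontrivial fixed vector
    obtain ⟨x0, hx0, hx01, hx0z⟩ := hQ
    let g : Q → Q := fun x => ⟨α x, hαQ x x.2⟩
    have hg_coe : ∀ x : Q, ((g x : Q) : K) = α x := fun _ => rfl
    let f : Function.End h.V := fun v => h.pr (g (Function.surjInv h.pr_surjective v))
    have hf : ∀ x : Q, f (h.pr x) = h.pr (g x) := by
      intro x
      show h.pr _ = h.pr _
      have h2 : h.pr (Function.surjInv h.pr_surjective (h.pr x)) = h.pr x :=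
        Function.surjInv_eq h.pr_surjective (h.pr x)
      rw [h.pr_eq_pr] at h2 ⊢
      rw [hg_coe, hg_coe]
      rcases h2 with h3 | h3
      · left; rw [h3]
      · right; rw [h3, map_mul, hz]
    have hfk : ∀ (j : ℕ) (x : Q), (f ^ j) (h.pr x) = h.pr (g^[j] x) := by
      intro j
      induction j with
      | zero => intro x; rfl
      | succ j ih =>
        intro x
        rw [pow_succ, Function.iterate_succ_apply]
        show (f ^ j) (f (h.pr x)) = h.pr (g^[j] (g x))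
        rw [hf, ih]
    obtain ⟨j, hj⟩ := hp ⟨α, mem_zpowers α⟩
    have hj' : α ^ 2 ^ j = 1 := congrArg Subtype.val hj
    have hαk : ∀ (i : ℕ) (x : Q), ((g^[i] x : Q) : K) = (α ^ i) (x : K) := by
      intro i
      induction i with
      | zero => intro x; rfl
      | succ i ih =>
        intro x
        rw [pow_succ, Function.iterate_succ_apply, ih, hg_coe]
        rfl
    have hfone : f ^ 2 ^ j = 1 := by
      funext v
      obtain ⟨x, rfl⟩ := h.pr_surjective v
      rw [hfk]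
      show _ = h.pr x
      congr 1
      apply Subtype.ext
      rw [hαk, hj']
      rfl
    have : Finite h.V := Finite.of_surjective _ h.pr_surjective
    have := Fintype.ofFinite h.V
    have h1 := Equiv.Perm.card_fixedPoints_modEq (p := 2) (n := j) (f := f) hfone
    have hne : h.pr ⟨x0, hx0⟩ ≠ 0 := by
      intro h1
      rcases h.pr_eq_zero.1 h1 with h2 | h2
      · exact hx01 h2
      · exact hx0z h2
    have h2V : 2 ∣ Nat.card h.V := by
      have h1 : addOrderOf (h.pr ⟨x0, hx0⟩) = 2 := by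
        apply addOrderOf_eq_prime
        · rw [two_nsmul]; exact h.add_self _
        · exact hne
      rw [← h1]
      exact addOrderOf_dvd_natCard _
    rw [Nat.card_eq_fintype_card] at h2V
    have h3 : 2 ∣ Fintype.card f.fixedPoints :=
      (Nat.modEq_zero_iff_dvd.1 (h1.symm.trans (Nat.modEq_zero_iff_dvd.2 h2V)))
    have h0 : (0 : h.V) ∈ f.fixedPoints := by
      show f 0 = 0
      have e0 : h.pr (1 : Q) = 0 := h.pr_eq_zero.2 (Or.inl rfl)
      have e1 : g 1 = 1 := Subtype.ext (map_one α)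
      rw [← e0, hf, e1]
    have h4 : 1 < Fintype.card f.fixedPoints := by
      have h5 : 0 < Fintype.card f.fixedPoints := Fintype.card_pos_iff.2 ⟨⟨0, h0⟩⟩
      obtain ⟨c, hc⟩ := h3
      omega
    obtain ⟨⟨v, hv⟩, hv0⟩ := Fintype.exists_ne_of_one_lt_card h4 ⟨0, h0⟩
    obtain ⟨x, rfl⟩ := h.pr_surjective v
    have h6 : h.pr (g x) = h.pr x := by rw [← hf]; exact hv
    have h7 : (x : K) ∈ N := by
      refine ⟨x.2, ?_⟩
      rcases h.pr_eq_pr.1 h6 with h8 | h8
      · left; exact h8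
      · right; exact h8
    apply hv0
    apply Subtype.ext
    show h.pr x = 0
    exact h.pr_eq_zero.2 (hN _ h7)
  · intro x hx
    have : x ∈ N := by rw [hN]; exact hx
    exact this.2

end Cfsg.Agent.KFacts.LargeIndexTwo

end

-- merged: Cfsg.Agent.KFacts.HN.Lin
section

/-!
# The linear maps preserving the colours of the masks

`CD`, `CS`, `CF`: the three classes (60, 75, 120) of nonzero masks, as numbers with 256 bits. A map of masks which is
additive and preserves the classes is, up to a matrix of a word, the identity or the reflection `PHI`: depth-first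
search over the images of the basis masks (1277 nodes).
-/

set_option autoImplicit false
set_option Elab.async false

namespace Cfsg.Agent.KFacts.HN

open Cfsg.Agent.HN Cfsg.Agent.HN.XMat Cfsg.Agent.HN.XStruct
open Cfsg.Agent.SporadicA.PermTab (band_eq_true allB allB_iff)

/-- the class of 60 masks -/
def CD : ℕ := 1823829608268195304905218113382260448234415363642013184894125277215575052086
/-- the class of 75 masks -/
def CS : ℕ := 44498306708733774402112165723792995419934876201750130512172539749221290082504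
/-- the class of 120 masks -/
def CF : ℕ := 69469952920314225716553601171512651985100693100248420342390918981476264505344

/-- the reflection -/
def PHI : ℕ := 11331374490195395073

/-- test of a bit -/
def tst (C u y : ℕ) : Bool := Nat.beq (Nat.land (Nat.shiftRight C (Nat.xor u y)) 1) 1

theorem tst_iff {C u y : ℕ} : tst C u y = true ↔ C.testBit (u ^^^ y) = true := by
  change Nat.beq ((C >>> (u ^^^ y)) &&& 1) 1 = true ↔ _
  rw [Nat.beq_eq, Nat.testBit, Nat.and_comm]
  have h : 1 &&& (C >>> (u ^^^ y)) = 0 ∨ 1 &&& (C >>> (u ^^^ y)) = 1 := by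
    rw [Nat.and_comm, Nat.and_one_is_mod]; omega
  rcases h with h | h <;> simp [h]

/-- all elements of a list -/
def allN (f : ℕ → Bool) (L : List ℕ) : Bool := List.rec true (fun y _ ih => cond (f y) ih false) L

theorem allN_iff {f : ℕ → Bool} {L : List ℕ} : allN f L = true ↔ ∀ y ∈ L, f y = true := by
  induction L with
  | nil => simp [allN]
  | cons y L ih =>
    change cond (f y) (allN f L) false = true ↔ _
    cases h : f y
    · simp [h]
    · simp [h, ih]

/-- level of the search: the candidates and three tests (mask, class) -/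
structure Lev where
  L : List ℕ
  s1 : ℕ
  C1 : ℕ
  s2 : ℕ
  C2 : ℕ
  s3 : ℕ
  C3 : ℕ

/-- the child with image `y` -/
def stp (ih : ℕ → ℕ → Bool) (l : Lev) (j Y u1 u2 u3 y : ℕ) : Bool :=
  cond (tst l.C1 u1 y) (cond (tst l.C2 u2 y) (cond (tst l.C3 u3 y)
    (force (Nat.lor Y (Nat.shiftLeft y (Nat.mul 8 j))) (fun Y' => ih (Nat.succ j) Y')) true) true) true

/-- one level -/
def onelev (ih : ℕ → ℕ → Bool) (l : Lev) (j Y : ℕ) : Bool :=
  force (app Y l.s1) (fun u1 => force (app Y l.s2) (fun u2 => force (app Y l.s3) (fun u3 =>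
    allN (stp ih l j Y u1 u2 u3) l.L)))

/-- the leaf is the matrix of a word up to `PHI` -/
def leafOk (Y : ℕ) : Bool :=
  cond (S5M.any (fun M => Nat.beq Y M)) true (force (mul PHI Y) (fun Z => S5M.any (fun M => Nat.beq Z M)))

/-- depth-first search -/
def dfs (ls : List Lev) : ℕ → ℕ → Bool :=
  List.rec (fun _ Y => leafOk Y) (fun l _ ih j Y => onelev ih l j Y) ls

/-- the 120 masks of the class `CF` -/
def FL : List ℕ := 12 :: FF.map (fun t => t.1)

/-- the levels -/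
def levs : List Lev := [
  ⟨DD, 1, CS, 1, CS, 1, CS⟩,
  ⟨DD, 1, CD, 2, CS, 2, CS⟩,
  ⟨DD, 1, CD, 2, CD, 4, CF⟩,
  ⟨DD, 1, CS, 2, CD, 8, CS⟩,
  ⟨DD, 1, CD, 6, CD, 8, CS⟩,
  ⟨DD, 1, CD, 5, CS, 62, CD⟩,
  ⟨FL, 1, CS, 4, CD, 30, CD⟩]

theorem dfs_levs : dfs levs 1 1 = true := by decide +kernel

/-! ### soundness -/

/-- additive and colour preserving -/
structure Gam (x : ℕ → ℕ) : Prop where
  add : ∀ a b, x (a ^^^ b) = x a ^^^ x b
  lt : ∀ m, x m < 256
  cD : ∀ m < 256, CD.testBit m = true → CD.testBit (x m) = true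
  cS : ∀ m < 256, CS.testBit m = true → CS.testBit (x m) = true
  cF : ∀ m < 256, CF.testBit m = true → CF.testBit (x m) = true

/-- the packed images of the first basis masks -/
def pk (x : ℕ → ℕ) (n : ℕ) : ℕ :=
  Nat.rec 0 (fun i acc => Nat.lor acc (Nat.shiftLeft (x (2 ^ i)) (Nat.mul 8 i))) n

theorem pk_succ (x : ℕ → ℕ) (n : ℕ) : pk x (n + 1) = (pk x n) ||| ((x (2 ^ n)) <<< (8 * n)) := rfl

theorem pk_lt {x : ℕ → ℕ} (hx : ∀ m, x m < 256) (n : ℕ) : pk x n < 2 ^ (8 * n) := by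
  induction n with
  | zero => exact Nat.one_pos
  | succ n ih =>
    rw [pk_succ]
    apply Nat.or_lt_two_pow
    · exact ih.trans_le (Nat.pow_le_pow_right (by norm_num) (by omega))
    · rw [Nat.shiftLeft_eq, show 2 ^ (8 * (n + 1)) = 256 * 2 ^ (8 * n) by
        rw [show 8 * (n + 1) = 8 + 8 * n by ring, pow_add]; norm_num]
      exact Nat.mul_lt_mul_of_pos_right (hx _) (by positivity)

theorem pk_row {x : ℕ → ℕ} (hx : ∀ m, x m < 256) {n i : ℕ} (h : i < n) : row (pk x n) i = x (2 ^ i) := by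
  induction n with
  | zero => omega
  | succ n ih =>
    rw [row_eq, pk_succ]
    apply Nat.eq_of_testBit_eq
    intro j
    have hb : ∀ x : ℕ, ((x >>> (8 * i)) % 256).testBit j = (decide (j < 8) && x.testBit (8 * i + j)) := by
      intro x
      rw [show (256 : ℕ) = 2 ^ 8 by norm_num, Nat.testBit_mod_two_pow, Nat.testBit_shiftRight]
    rw [hb, Nat.testBit_or, Nat.testBit_shiftLeft]
    rcases Nat.lt_succ_iff_lt_or_eq.1 h with h1 | h1
    · have h2 := ih h1
      rw [row_eq] at h2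
      have h3 := congrArg (fun x => Nat.testBit x j) h2
      simp only [hb] at h3
      rw [← h3]
      by_cases hj : j < 8
      · have h4 : ¬ (8 * i + j ≥ 8 * n) := by omega
        simp [hj, h4]
      · simp [hj]
    · subst h1
      by_cases hj : j < 8
      · have h4 : (pk x i).testBit (8 * i + j) = false :=
          Nat.testBit_lt_two_pow ((pk_lt hx i).trans_le (Nat.pow_le_pow_right (by norm_num) (by omega)))
        simp [hj, h4]
      · have h5 : (x (2 ^ i)).testBit j = false :=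
          Nat.testBit_lt_two_pow ((hx _).trans_le
            (le_trans (by norm_num : (256 : ℕ) ≤ 2 ^ 8) (Nat.pow_le_pow_right (by norm_num) (by omega))))
        simp [hj, h5]

theorem mod_succ (s n : ℕ) : s % 2 ^ (n + 1) = (s % 2 ^ n) ^^^ (if s.testBit n then 2 ^ n else 0) := by
  apply Nat.eq_of_testBit_eq
  intro j
  rw [Nat.testBit_mod_two_pow, Nat.testBit_xor, Nat.testBit_mod_two_pow]
  rcases lt_trichotomy j n with h | h | h
  · have h1 : (if s.testBit n = true then 2 ^ n else 0).testBit j = false := by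
      split
      · rw [Nat.testBit_two_pow]; simp; omega
      · simp
    have h2 : j < n + 1 := by omega
    rw [h1]; simp [h, h2]
  · subst h
    cases h1 : s.testBit j
    · simp
    · simp
  · have h1 : (if s.testBit n = true then 2 ^ n else 0).testBit j = false := by
      split
      · rw [Nat.testBit_two_pow]; simp; omega
      · simp
    have h2 : ¬ j < n + 1 := by omega
    have h3 : ¬ j < n := by omega
    rw [h1]; simp [h2, h3]

theorem Gam.zero {x : ℕ → ℕ} (h : Gam x) : x 0 = 0 := by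
  have := h.add 0 0
  rw [Nat.xor_self, Nat.xor_self] at this
  exact this

theorem app_pk {x : ℕ → ℕ} (hx : Gam x) {j s : ℕ} (hj : j ≤ 8) (hs : s < 2 ^ j) : app (pk x j) s = x s := by
  have key : ∀ n ≤ 8, appn (pk x j) s n = x (s % 2 ^ n) := by
    intro n
    induction n with
    | zero => intro _; rw [appn_zero, pow_zero, Nat.mod_one, hx.zero]
    | succ n ih =>
      intro hn
      rw [appn_succ, ih (by omega), mod_succ, hx.add]
      congr 1
      split
      · rename_i hb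
        have hnj : n < j := by
          by_contra hc
          have := Nat.testBit_lt_two_pow (hs.trans_le (Nat.pow_le_pow_right (by norm_num) (not_lt.1 hc)))
          rw [this] at hb
          exact absurd hb (by simp)
        exact pk_row hx.lt hnj
      · exact hx.zero.symm
  have h := key 8 le_rfl
  rw [Nat.mod_eq_of_lt (hs.trans_le (Nat.pow_le_pow_right (by norm_num) hj))] at h
  exact h

theorem chkDDC : allB (fun m => cond (tst CD 0 m) (DD.any (fun y => Nat.beq m y)) true) 256 = true := by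
  decide +kernel

theorem chkFLC : allB (fun m => cond (tst CF 0 m) (FL.any (fun y => Nat.beq m y)) true) 256 = true := by
  decide +kernel

theorem mem_of_chk {C : ℕ} {L : List ℕ}
    (h : allB (fun m => cond (tst C 0 m) (L.any (fun y => Nat.beq m y)) true) 256 = true) {m : ℕ} (hm : m < 256)
    (hC : C.testBit m = true) : m ∈ L := by
  have h1 := (allB_iff _ _).1 h m hm
  have h2 : tst C 0 m = true := by rw [tst_iff, Nat.zero_xor]; exact hC
  rw [h2] at h1
  have h1' : L.any (fun y => Nat.beq m y) = true := h1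
  rw [List.any_eq_true] at h1'
  obtain ⟨y, hy, hy'⟩ := h1'
  rw [Nat.eq_of_beq_eq_true hy']
  exact hy

/-- the tests of the level are consequences of the colours -/
def okT (s C j : ℕ) : Prop := s < 2 ^ j ∧ (C = CD ∨ C = CS ∨ C = CF) ∧ C.testBit (s ^^^ 2 ^ j) = true

theorem tst_of {x : ℕ → ℕ} (hx : Gam x) {s C j : ℕ} (hj : j < 8) (h : okT s C j) :
    tst C (app (pk x j) s) (x (2 ^ j)) = true := by
  obtain ⟨h1, h2, h3⟩ := h
  rw [tst_iff, app_pk hx hj.le h1, ← hx.add]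
  have hp : 2 ^ j < 2 ^ 8 := Nat.pow_lt_pow_right (by norm_num) hj
  have hlt : s ^^^ 2 ^ j < 256 := Nat.xor_lt_two_pow (n := 8) (h1.trans hp) hp
  rcases h2 with rfl | rfl | rfl
  · exact hx.cD _ hlt h3
  · exact hx.cS _ hlt h3
  · exact hx.cF _ hlt h3

/-- validity of a level -/
def okL (l : Lev) (j : ℕ) : Prop :=
  j < 8 ∧ okT l.s1 l.C1 j ∧ okT l.s2 l.C2 j ∧ okT l.s3 l.C3 j ∧
    ((l.L = DD ∧ CD.testBit (2 ^ j) = true) ∨ (l.L = FL ∧ CF.testBit (2 ^ j) = true))

theorem mem_lev {x : ℕ → ℕ} (hx : Gam x) {l : Lev} {j : ℕ} (h : okL l j) : x (2 ^ j) ∈ l.L := by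
  obtain ⟨h0, -, -, -, h5⟩ := h
  have hp : 2 ^ j < 256 := Nat.pow_lt_pow_right (a := 2) (n := 8) (by norm_num) h0
  rcases h5 with ⟨h5, h6⟩ | ⟨h5, h6⟩
  · rw [h5]; exact mem_of_chk chkDDC (hx.lt _) (hx.cD _ hp h6)
  · rw [h5]; exact mem_of_chk chkFLC (hx.lt _) (hx.cF _ hp h6)

theorem onelev_sound {x : ℕ → ℕ} (hx : Gam x) {l : Lev} {j : ℕ} (h : okL l j) {ih : ℕ → ℕ → Bool}
    (hl : onelev ih l j (pk x j) = true) : ih (j + 1) (pk x (j + 1)) = true := by
  unfold onelev at hl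
  rw [force_eq, force_eq, force_eq, allN_iff] at hl
  have h1 := hl _ (mem_lev hx h)
  obtain ⟨h0, t1, t2, t3, -⟩ := h
  unfold stp at h1
  rw [tst_of hx h0 t1, tst_of hx h0 t2, tst_of hx h0 t3, force_eq] at h1
  exact h1

/-- validity of a list of levels -/
def okLs (ls : List Lev) : ℕ → Prop := List.rec (fun _ => True) (fun l _ ih j => okL l j ∧ ih (j + 1)) ls

theorem dfs_sound {x : ℕ → ℕ} (hx : Gam x) : ∀ (ls : List Lev) (j : ℕ), okLs ls j →
    dfs ls j (pk x j) = true → leafOk (pk x (j + ls.length)) = true := by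
  intro ls
  induction ls with
  | nil => intro j _ h; exact h
  | cons l ls ih =>
    intro j hok h
    have h1 := onelev_sound hx hok.1 (ih := dfs ls) h
    have h2 := ih (j + 1) hok.2 h1
    rw [List.length_cons, show j + (ls.length + 1) = j + 1 + ls.length by omega]
    exact h2

theorem okD (s1 C1 s2 C2 s3 C3 j : ℕ) (h0 : j < 8) (h1 : okT s1 C1 j) (h2 : okT s2 C2 j) (h3 : okT s3 C3 j)
    (h4 : CD.testBit (2 ^ j) = true) : okL ⟨DD, s1, C1, s2, C2, s3, C3⟩ j :=
  ⟨h0, h1, h2, h3, Or.inl ⟨rfl, h4⟩⟩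

theorem okTD {s j : ℕ} (h1 : s < 2 ^ j) (h : CD.testBit (s ^^^ 2 ^ j) = true) : okT s CD j := ⟨h1, Or.inl rfl, h⟩
theorem okTS {s j : ℕ} (h1 : s < 2 ^ j) (h : CS.testBit (s ^^^ 2 ^ j) = true) : okT s CS j :=
  ⟨h1, Or.inr (Or.inl rfl), h⟩
theorem okTF {s j : ℕ} (h1 : s < 2 ^ j) (h : CF.testBit (s ^^^ 2 ^ j) = true) : okT s CF j :=
  ⟨h1, Or.inr (Or.inr rfl), h⟩

theorem levs_ok : okLs levs 1 := by
  refine ⟨?_, ?_, ?_, ?_, ?_, ?_, ?_, trivial⟩
  · exact okD 1 CS 1 CS 1 CS 1 (by decide) (okTS (by decide) (by decide +kernel)) (okTS (by decide) (by decide +kernel))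
      (okTS (by decide) (by decide +kernel)) (by decide +kernel)
  · exact okD 1 CD 2 CS 2 CS 2 (by decide) (okTD (by decide) (by decide +kernel)) (okTS (by decide) (by decide +kernel))
      (okTS (by decide) (by decide +kernel)) (by decide +kernel)
  · exact okD 1 CD 2 CD 4 CF 3 (by decide) (okTD (by decide) (by decide +kernel)) (okTD (by decide) (by decide +kernel))
      (okTF (by decide) (by decide +kernel)) (by decide +kernel)
  · exact okD 1 CS 2 CD 8 CS 4 (by decide) (okTS (by decide) (by decide +kernel)) (okTD (by decide) (by decide +kernel))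
      (okTS (by decide) (by decide +kernel)) (by decide +kernel)
  · exact okD 1 CD 6 CD 8 CS 5 (by decide) (okTD (by decide) (by decide +kernel)) (okTD (by decide) (by decide +kernel))
      (okTS (by decide) (by decide +kernel)) (by decide +kernel)
  · exact okD 1 CD 5 CS 62 CD 6 (by decide) (okTD (by decide) (by decide +kernel)) (okTS (by decide) (by decide +kernel))
      (okTD (by decide) (by decide +kernel)) (by decide +kernel)
  · exact ⟨by decide, okTS (s := 1) (by decide) (by decide +kernel), okTD (s := 4) (by decide) (by decide +kernel),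
      okTD (s := 30) (by decide) (by decide +kernel), Or.inr ⟨rfl, by decide +kernel⟩⟩

theorem chkPHI : allB (fun m => Nat.beq (app PHI (app PHI m)) m) 256 = true := by decide +kernel

theorem app_PHI {m : ℕ} (hm : m < 256) : app PHI (app PHI m) = m :=
  Nat.eq_of_beq_eq_true ((allB_iff _ _).1 chkPHI m hm)

theorem leafOk_spec {Y : ℕ} (h : leafOk Y = true) :
    ∃ w : List ℕ, Y = mw w ∨ mul PHI Y = mw w := by
  unfold leafOk at h
  rw [force_eq] at h
  have key : ∀ Z, S5M.any (fun M => Nat.beq Z M) = true → ∃ w : List ℕ, Z = mw w := by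
    intro Z hZ
    rw [List.any_eq_true] at hZ
    obtain ⟨M, hM, h1⟩ := hZ
    rw [← chkS, List.mem_map] at hM
    obtain ⟨w, -, hw⟩ := hM
    exact ⟨w, by rw [hw]; exact Nat.eq_of_beq_eq_true h1⟩
  cases h1 : S5M.any (fun M => Nat.beq Y M)
  · rw [h1] at h
    obtain ⟨w, hw⟩ := key _ h
    exact ⟨w, Or.inr hw⟩
  · obtain ⟨w, hw⟩ := key _ h1
    exact ⟨w, Or.inl hw⟩

/-- the maps fixing the mask 1 -/
theorem gn_one {x : ℕ → ℕ} (hx : Gam x) (h1 : x 1 = 1) :
    ∃ w : List ℕ, (∀ m < 256, x m = app (mw w) m) ∨ (∀ m < 256, x m = app (mw w) (app PHI m)) := by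
  have hp : pk x 1 = 1 := by
    rw [pk_succ, show (2 : ℕ) ^ 0 = 1 by norm_num, h1]
    change 0 ||| 1 <<< (8 * 0) = 1
    decide
  have h2 := dfs_sound hx levs 1 levs_ok (by rw [hp]; exact dfs_levs)
  obtain ⟨w, hw⟩ := leafOk_spec (Y := pk x 8) h2
  refine ⟨w, ?_⟩
  rcases hw with hw | hw
  · left
    intro m hm
    rw [← hw, app_pk hx le_rfl hm]
  · right
    intro m hm
    rw [← hw, app_mul, app_PHI hm, app_pk hx le_rfl hm]

/-! ### inverse words -/

theorem app_append (u v : List ℕ) {m : ℕ} (hm : m < 256) : app (mw (u ++ v)) m = app (mw v) (app (mw u) m) := by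
  induction u generalizing m with
  | nil => rw [List.nil_append, mw_nil, app_MI hm]
  | cons g u ih => rw [List.cons_append, mw_cons, mw_cons, app_mul, app_mul, ih (app_lt _ _)]

/-- inverse of a letter -/
def gi (g : ℕ) : List ℕ :=
  match g with
  | 0 => [0, 0]
  | 1 => [1, 1, 1]
  | _ => [2, 2]

theorem chkgi : allB (fun g => allB (fun m => Bool.and (Nat.beq (app (mw (gi g)) (app (gen g) m)) m)
    (Nat.beq (app (gen g) (app (mw (gi g)) m)) m)) 256) 3 = true := by decide +kernel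

theorem gen_ge2 {g : ℕ} (h : 2 ≤ g) : gen g = gen 2 := by
  obtain ⟨k, rfl⟩ := Nat.exists_eq_add_of_le h
  rw [Nat.add_comm]; rfl

theorem gi_ge {g : ℕ} (h : 2 ≤ g) : gi g = gi 2 := by
  obtain ⟨k, rfl⟩ := Nat.exists_eq_add_of_le h
  rw [Nat.add_comm]; rfl

theorem app_gi (g : ℕ) {m : ℕ} (hm : m < 256) : app (mw (gi g)) (app (gen g) m) = m ∧
    app (gen g) (app (mw (gi g)) m) = m := by
  have key : ∀ g < 3, app (mw (gi g)) (app (gen g) m) = m ∧ app (gen g) (app (mw (gi g)) m) = m := by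
    intro g hg
    have h := (allB_iff _ _).1 ((allB_iff _ _).1 chkgi g hg) m hm
    have h' := (Bool.and_eq_true _ _).mp h
    exact ⟨Nat.eq_of_beq_eq_true h'.1, Nat.eq_of_beq_eq_true h'.2⟩
  rcases Nat.lt_or_ge g 2 with h | h
  · exact key g (by omega)
  · rw [gen_ge2 h, gi_ge h]; exact key 2 (by norm_num)

/-- inverse of a word -/
def iwn (w : List ℕ) : List ℕ := List.rec [] (fun g _ ih => ih ++ gi g) w

theorem app_iwn (w : List ℕ) {m : ℕ} (hm : m < 256) : app (mw (iwn w)) (app (mw w) m) = m ∧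
    app (mw w) (app (mw (iwn w)) m) = m := by
  induction w generalizing m with
  | nil => change app MI (app MI m) = m ∧ app MI (app MI m) = m; rw [app_MI hm, app_MI hm]; exact ⟨rfl, rfl⟩
  | cons g w ih =>
    have h : iwn (g :: w) = iwn w ++ gi g := rfl
    rw [h, mw_cons]
    constructor
    · rw [app_append _ _ (app_lt _ _), app_mul, (ih (app_lt _ _)).1, (app_gi g hm).1]
    · rw [app_append _ _ hm, app_mul, (app_gi g (app_lt _ _)).2, (ih hm).2]

/-! ### the colours are preserved by the words -/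

theorem chkcol : allB (fun g => allB (fun m => Bool.and (cond (tst CD 0 m) (tst CD 0 (app (gen g) m)) true)
    (Bool.and (cond (tst CS 0 m) (tst CS 0 (app (gen g) m)) true) (cond (tst CF 0 m) (tst CF 0 (app (gen g) m)) true))) 256) 3
    = true := by decide +kernel

theorem col_gen (g : ℕ) {m : ℕ} (hm : m < 256) : (CD.testBit m = true → CD.testBit (app (gen g) m) = true) ∧
    (CS.testBit m = true → CS.testBit (app (gen g) m) = true) ∧
    (CF.testBit m = true → CF.testBit (app (gen g) m) = true) := by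
  have key : ∀ g < 3, (CD.testBit m = true → CD.testBit (app (gen g) m) = true) ∧
    (CS.testBit m = true → CS.testBit (app (gen g) m) = true) ∧
    (CF.testBit m = true → CF.testBit (app (gen g) m) = true) := by
    intro g hg
    have h := (allB_iff _ _).1 ((allB_iff _ _).1 chkcol g hg) m hm
    have h' := (Bool.and_eq_true _ _).mp h
    have h'' := (Bool.and_eq_true _ _).mp h'.2
    have one : ∀ C, cond (tst C 0 m) (tst C 0 (app (gen g) m)) true = true → C.testBit m = true →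
        C.testBit (app (gen g) m) = true := by
      intro C hC h1
      have h2 : tst C 0 m = true := by rw [tst_iff, Nat.zero_xor]; exact h1
      rw [h2] at hC
      have h3 := tst_iff.1 hC
      rwa [Nat.zero_xor] at h3
    exact ⟨one _ h'.1, one _ h''.1, one _ h''.2⟩
  rcases Nat.lt_or_ge g 2 with h | h
  · exact key g (by omega)
  · rw [gen_ge2 h]; exact key 2 (by norm_num)

theorem col_mw (w : List ℕ) {m : ℕ} (hm : m < 256) : (CD.testBit m = true → CD.testBit (app (mw w) m) = true) ∧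
    (CS.testBit m = true → CS.testBit (app (mw w) m) = true) ∧
    (CF.testBit m = true → CF.testBit (app (mw w) m) = true) := by
  induction w generalizing m with
  | nil => rw [mw_nil, app_MI hm]; exact ⟨id, id, id⟩
  | cons g w ih =>
    rw [mw_cons, app_mul]
    obtain ⟨a, b, c⟩ := col_gen g hm
    obtain ⟨a', b', c'⟩ := ih (app_lt (gen g) m)
    exact ⟨fun h => a' (a h), fun h => b' (b h), fun h => c' (c h)⟩

/-- **the colour preserving additive maps** -/
theorem gn {x : ℕ → ℕ} (hx : Gam x) :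
    ∃ w : List ℕ, (∀ m < 256, x m = app (mw w) m) ∨ (∀ m < 256, x m = app (mw w) (app PHI m)) := by
  have h1 : x 1 ∈ DD := mem_of_chk chkDDC (hx.lt _) (hx.cD 1 (by norm_num) (by decide +kernel))
  obtain ⟨w, -, hw⟩ := exists_DW h1
  have hx' : Gam (fun m => app (mw (iwn w)) (x m)) :=
    { add := fun a b => by
        change app (mw (iwn w)) (x (a ^^^ b)) = app (mw (iwn w)) (x a) ^^^ app (mw (iwn w)) (x b)
        rw [hx.add, app_xor]
      lt := fun m => app_lt _ _
      cD := fun m hm h => (col_mw _ (hx.lt m)).1 (hx.cD m hm h)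
      cS := fun m hm h => (col_mw _ (hx.lt m)).2.1 (hx.cS m hm h)
      cF := fun m hm h => (col_mw _ (hx.lt m)).2.2 (hx.cF m hm h) }
  obtain ⟨u, hu⟩ := gn_one hx' (by
    change app (mw (iwn w)) (x 1) = 1
    rw [← hw, (app_iwn w (by norm_num)).1])
  refine ⟨u ++ w, ?_⟩
  have key : ∀ m < 256, ∀ y < 256, app (mw (iwn w)) (x m) = app (mw u) y → x m = app (mw (u ++ w)) y := by
    intro m _ y hy h
    rw [app_append _ _ hy, ← h, (app_iwn w (hx.lt m)).2]
  rcases hu with hu | hu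
  · left
    intro m hm
    exact key m hm m hm (hu m hm)
  · right
    intro m hm
    exact key m hm _ (app_lt _ _) (hu m hm)

end Cfsg.Agent.KFacts.HN

end

-- merged: Cfsg.Agent.KFacts.HN.Colour
section

/-!
# The colours of the elements of `R` and the action of automorphisms fixing `W0`

Elements of `R` with masks in `CD` are conjugate to `Q 0 = τ`, those with masks in `CS` to `W0`, those with masks in `CF`
have square `W0`. `no_tr`: an element mapping each `r ∈ C_R(z')`, `z' = r Q 3`, to `r` or `r W0 z'` centralises `C_R(z')`.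
-/

set_option autoImplicit false
set_option Elab.async false

namespace Cfsg.Agent.KFacts.HN

open Cfsg.Agent.HN Cfsg.Agent.HN.Pres Cfsg.Agent.HN.P1408 Cfsg.Agent.HN.H0Basic Cfsg.Agent.HN.XMat
open Cfsg.Agent.HN.XStruct Cfsg.Agent.HN.XWords Cfsg.Agent.HN.XQuot Cfsg.Agent.HN.XInst Cfsg.Agent.HN.FusGen
open Cfsg.Agent.SporadicA.PermTab (band_eq_true allB allB_iff)

/-- `τ = Q 0` and `W0` are not conjugate -/
theorem not_conj_QW : ¬ IsConj (Q 0) W0 := by
  have h := inst.not_t_w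
  have h1 := inst.t_eq
  change ¬ IsConj (NormalH.ψ τ) W0 at h
  change Q 0 = NormalH.ψ τ at h1
  rwa [h1]

theorem sgn_comm (b : Bool) {u : Cfsg.Spor.HN} (hu : u ∈ PP) : u * sgn0 b = sgn0 b * u := csg b u (mem_PP.1 hu)

/-- conjugation of an element of `R` with sign by a letter -/
theorem conj_step {A : Cfsg.Spor.HN} {p : ℕ} (h : ∀ b, IsConj A (r Q p * sgn0 b)) (g : ℕ) :
    ∀ b, IsConj A (r Q (app (gen g) p) * sgn0 b) := by
  intro b
  have h1 : Acts k (π W0 (evw Γ [g])) (gen g) := by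
    rw [π_e]
    have := hyp.toBas.act g
    rwa [evw_cons, evw_nil, mul_one]
  obtain ⟨c, hc⟩ := r_conj (e_mem_PP [g]) h1 p
  refine (h (c ^^ b)).trans ?_
  refine isConj_iff.2 ⟨(evw Γ [g])⁻¹, ?_⟩
  rw [inv_inv]
  have h2 := sgn_comm (c ^^ b) (e_mem_PP [g])
  calc (evw Γ [g])⁻¹ * (r Q p * sgn0 (c ^^ b)) * evw Γ [g]
      = (evw Γ [g])⁻¹ * r Q p * (sgn0 (c ^^ b) * evw Γ [g]) := by group
    _ = (evw Γ [g])⁻¹ * r Q p * evw Γ [g] * sgn0 (c ^^ b) := by rw [← h2]; group
    _ = r Q (app (gen g) p) * sgn0 b := by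
      rw [hc, mul_assoc, sgn0_mul, ← Bool.xor_assoc, Bool.xor_self, Bool.false_xor]

theorem sq_step {p : ℕ} (h : ∀ b, (r Q p * sgn0 b) * (r Q p * sgn0 b) = W0) (g : ℕ) :
    ∀ b, (r Q (app (gen g) p) * sgn0 b) * (r Q (app (gen g) p) * sgn0 b) = W0 := by
  intro b
  have h1 : Acts k (π W0 (evw Γ [g])) (gen g) := by
    rw [π_e]
    have := hyp.toBas.act g
    rwa [evw_cons, evw_nil, mul_one]
  obtain ⟨c, hc⟩ := r_conj (e_mem_PP [g]) h1 p
  have h2 := sgn_comm (c ^^ b) (e_mem_PP [g])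
  have e : r Q (app (gen g) p) * sgn0 b = (evw Γ [g])⁻¹ * (r Q p * sgn0 (c ^^ b)) * evw Γ [g] := by
    symm
    calc (evw Γ [g])⁻¹ * (r Q p * sgn0 (c ^^ b)) * evw Γ [g]
        = (evw Γ [g])⁻¹ * r Q p * (sgn0 (c ^^ b) * evw Γ [g]) := by group
      _ = (evw Γ [g])⁻¹ * r Q p * evw Γ [g] * sgn0 (c ^^ b) := by rw [← h2]; group
      _ = r Q (app (gen g) p) * sgn0 b := by
        rw [hc, mul_assoc, sgn0_mul, ← Bool.xor_assoc, Bool.xor_self, Bool.false_xor]
  have h3 := h (c ^^ b)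
  have h4 := mem_PP.1 (e_mem_PP [g])
  rw [e]
  calc (evw Γ [g])⁻¹ * (r Q p * sgn0 (c ^^ b)) * evw Γ [g] * ((evw Γ [g])⁻¹ * (r Q p * sgn0 (c ^^ b)) * evw Γ [g])
      = (evw Γ [g])⁻¹ * ((r Q p * sgn0 (c ^^ b)) * (r Q p * sgn0 (c ^^ b))) * evw Γ [g] := by group
    _ = (evw Γ [g])⁻¹ * (W0 * evw Γ [g]) := by rw [h3]; group
    _ = W0 := by rw [← h4]; group

theorem base_D : ∀ b, IsConj (Q 0) (r Q 1 * sgn0 b) := by
  intro b
  rw [show r Q 1 = Q 0 from Bas.r_one]
  cases b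
  · rw [show sgn0 false = 1 from rfl, mul_one]
  · have h1 := Q_comm (i := 0) (j := 7) (by norm_num) (by norm_num)
    have h2 : (Bm 7).testBit 0 = true := by decide +kernel
    rw [h2] at h1
    refine isConj_iff.2 ⟨(Q 7)⁻¹, ?_⟩
    rw [inv_inv, mul_assoc, h1, inv_mul_cancel_left]

theorem base_S : ∀ b, IsConj W0 (r Q 3 * sgn0 b) := by
  intro b
  cases b
  · rw [show sgn0 false = 1 from rfl, mul_one, W0_eq, r3_eq, ← V_hw (by decide +kernel)]
    exact NormalH.ψ.map_isConj conj_r3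
  · rw [show sgn0 true = W0 from rfl, W0, r3_eq, ← V_append, List.append_assoc]
    change IsConj W0 _
    rw [W0_eq, ← V_hw (by decide +kernel)]
    exact NormalH.ψ.map_isConj conj_r3w

theorem base_F : ∀ b, (r Q 12 * sgn0 b) * (r Q 12 * sgn0 b) = W0 := by
  intro b
  have h := sgn_comm b (r_mem_PP 12)
  calc (r Q 12 * sgn0 b) * (r Q 12 * sgn0 b) = r Q 12 * (sgn0 b * r Q 12) * sgn0 b := by group
    _ = r Q 12 * r Q 12 * (sgn0 b * sgn0 b) := by rw [← h]; group
    _ = W0 := by rw [sgn0_mul, Bool.xor_self, r12_sq]; exact mul_one _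

/-- mask of the class `CD`, `CS`, `CF` -/
theorem kinds {m : ℕ} (hm : m < 256) : m = 0 ∨ (CD.testBit m = true ∧ ∀ b, IsConj (Q 0) (r Q m * sgn0 b)) ∨
    (CS.testBit m = true ∧ ∀ b, IsConj W0 (r Q m * sgn0 b)) ∨
    (CF.testBit m = true ∧ ∀ b, (r Q m * sgn0 b) * (r Q m * sgn0 b) = W0) := by
  have stepS : ∀ p g, (p < 256 ∧ CS.testBit p = true ∧ ∀ b, IsConj W0 (r Q p * sgn0 b)) →
      (app (gen g) p < 256 ∧ CS.testBit (app (gen g) p) = true ∧ ∀ b, IsConj W0 (r Q (app (gen g) p) * sgn0 b)) :=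
    fun p g h => ⟨app_lt _ _, (col_gen g h.1).2.1 h.2.1, conj_step h.2.2 g⟩
  have stepF : ∀ p g, (p < 256 ∧ CF.testBit p = true ∧ ∀ b, (r Q p * sgn0 b) * (r Q p * sgn0 b) = W0) →
      (app (gen g) p < 256 ∧ CF.testBit (app (gen g) p) = true ∧
        ∀ b, (r Q (app (gen g) p) * sgn0 b) * (r Q (app (gen g) p) * sgn0 b) = W0) :=
    fun p g h => ⟨app_lt _ _, (col_gen g h.1).2.2 h.2.1, sq_step h.2.2 g⟩
  have hS3 : (3 < 256 ∧ CS.testBit 3 = true ∧ ∀ b, IsConj W0 (r Q 3 * sgn0 b)) :=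
    ⟨by norm_num, by decide +kernel, base_S⟩
  have hF12 : (12 < 256 ∧ CF.testBit 12 = true ∧ ∀ b, (r Q 12 * sgn0 b) * (r Q 12 * sgn0 b) = W0) :=
    ⟨by norm_num, by decide +kernel, base_F⟩
  rcases mask_cases hm with rfl | h1 | rfl | ⟨t, ht, rfl⟩ | rfl | ⟨t, ht, rfl⟩
  · exact Or.inl rfl
  · right; left
    obtain ⟨w, -, rfl⟩ := exists_DW h1
    have key : ∀ w : List ℕ, ∀ p, (p < 256 ∧ CD.testBit p = true ∧ ∀ b, IsConj (Q 0) (r Q p * sgn0 b)) →
        (CD.testBit (app (mw w) p) = true ∧ ∀ b, IsConj (Q 0) (r Q (app (mw w) p) * sgn0 b)) := by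
      intro w
      induction w with
      | nil => rintro p ⟨hp, h2, h3⟩; rw [mw_nil, app_MI hp]; exact ⟨h2, h3⟩
      | cons g w ih =>
        rintro p ⟨hp, h2, h3⟩
        rw [mw_cons, app_mul]
        exact ih _ ⟨app_lt _ _, (col_gen g hp).1 h2, conj_step h3 g⟩
    exact key w 1 ⟨by norm_num, by decide +kernel, base_D⟩
  · exact Or.inr (Or.inr (Or.inl hS3.2))
  · exact Or.inr (Or.inr (Or.inl (tree_spec stepS JJ [3] chkJJ
      (by intro p hp; rw [List.mem_singleton.1 hp]; exact hS3) t ht).2))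
  · exact Or.inr (Or.inr (Or.inr hF12.2))
  · exact Or.inr (Or.inr (Or.inr (tree_spec stepF FF [12] chkFF
      (by intro p hp; rw [List.mem_singleton.1 hp]; exact hF12) t ht).2))

theorem chkdis : allB (fun m => Bool.and (Bool.not (Bool.and (tst CD 0 m) (tst CS 0 m)))
    (Bool.and (Bool.not (Bool.and (tst CD 0 m) (tst CF 0 m))) (Bool.not (Bool.and (tst CS 0 m) (tst CF 0 m))))) 256
    = true := by decide +kernel

theorem dis {m : ℕ} (hm : m < 256) : ¬ (CD.testBit m = true ∧ CS.testBit m = true) ∧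
    ¬ (CD.testBit m = true ∧ CF.testBit m = true) ∧ ¬ (CS.testBit m = true ∧ CF.testBit m = true) := by
  have h := (allB_iff _ _).1 chkdis m hm
  have e : ∀ C, tst C 0 m = C.testBit m := by
    intro C
    rw [Bool.eq_iff_iff, tst_iff, Nat.zero_xor]
  rw [e, e, e] at h
  revert h
  cases CD.testBit m <;> cases CS.testBit m <;> cases CF.testBit m <;> simp

theorem kind_D {m : ℕ} (hm : m < 256) (h : CD.testBit m = true) : ∀ b, IsConj (Q 0) (r Q m * sgn0 b) := by
  have hd := dis hm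
  rcases kinds hm with rfl | h1 | h1 | h1
  · exact absurd h (by decide +kernel)
  · exact h1.2
  · exact absurd ⟨h, h1.1⟩ hd.1
  · exact absurd ⟨h, h1.1⟩ hd.2.1

theorem kind_S {m : ℕ} (hm : m < 256) (h : CS.testBit m = true) : ∀ b, IsConj W0 (r Q m * sgn0 b) := by
  have hd := dis hm
  rcases kinds hm with rfl | h1 | h1 | h1
  · exact absurd h (by decide +kernel)
  · exact absurd ⟨h1.1, h⟩ hd.1
  · exact h1.2
  · exact absurd ⟨h, h1.1⟩ hd.2.2

theorem kind_F {m : ℕ} (hm : m < 256) (h : CF.testBit m = true) :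
    ∀ b, (r Q m * sgn0 b) * (r Q m * sgn0 b) = W0 := by
  have hd := dis hm
  rcases kinds hm with rfl | h1 | h1 | h1
  · exact absurd h (by decide +kernel)
  · exact absurd ⟨h1.1, h⟩ hd.2.1
  · exact absurd ⟨h1.1, h⟩ hd.2.2
  · exact h1.2

end Cfsg.Agent.KFacts.HN

end

-- merged: Cfsg.Agent.KFacts.OutIdx
section

/-!
# `|Out(K)| ≤ 2` from the automorphisms fixing a 2-central involution

Let `S` be a Sylow 2-subgroup of `K` with centre `{1, z}`. Every automorphism is an inner one times one fixing `z`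
(Frattini). If for two automorphisms `α, β` fixing `z` one of `α`, `β`, `α β⁻¹` is inner, then `|Aut(K) : Inn(K)| ≤ 2`.
-/

set_option autoImplicit false

namespace Cfsg.Agent.KFacts.OutIdx

open scoped Pointwise
open Cfsg.Agent.OddHalf

variable {K : Type*} [Group K]

/-- Frattini argument. -/
theorem exists_conj_z [Finite K] {z : K} (hz1 : z ≠ 1)
    (syl : ∃ S : Sylow 2 K, z ∈ S ∧ (∀ x ∈ S, x * z = z * x) ∧ ∀ y ∈ S, (∀ x ∈ S, x * y = y * x) → y = 1 ∨ y = z)
    (α : MulAut K) : ∃ g : K, α z = g * z * g⁻¹ := by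
  obtain ⟨S, hzS, hz, hcen⟩ := syl
  obtain ⟨g, hg⟩ := MulAction.exists_smul_eq K S (α • S)
  have hmem : ∀ x : K, x ∈ (S : Subgroup K) ↔ α⁻¹ (g * x * g⁻¹) ∈ (S : Subgroup K) := by
    intro x
    have h1 : (g * x * g⁻¹) ∈ (g • S : Sylow 2 K) ↔ x ∈ (S : Subgroup K) := by
      rw [Sylow.smul_def]
      constructor
      · intro h
        obtain ⟨y, hy, e⟩ := h
        have : g * y * g⁻¹ = g * x * g⁻¹ := e
        have e2 : y = x := mul_left_cancel (mul_right_cancel this)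
        rw [← e2]; exact hy
      · intro h
        exact ⟨x, h, rfl⟩
    rw [← h1, hg]
    constructor
    · rintro ⟨y, hy, e⟩
      have e' : α y = g * x * g⁻¹ := e
      rw [← e', MulAut.inv_apply_self]
      exact hy
    · intro h
      exact ⟨_, h, MulAut.apply_inv_self K α _⟩
  refine ⟨g, ?_⟩
  set y : K := g⁻¹ * α z * g with hy
  have hyz : g * y * g⁻¹ = α z := by rw [hy]; group
  have hyS : y ∈ (S : Subgroup K) := by
    rw [hmem, hyz, MulAut.inv_apply_self]
    exact hzS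
  have h2 : ∀ x ∈ S, x * y = y * x := by
    intro x hx
    have h3 : α⁻¹ (g * x * g⁻¹) ∈ (S : Subgroup K) := (hmem x).1 hx
    have h4 := hz _ h3
    have h5 := congrArg α h4
    have h0 : α (α⁻¹ (g * x * g⁻¹)) = g * x * g⁻¹ := MulAut.apply_inv_self K α _
    rw [map_mul α, map_mul α, h0, ← hyz] at h5
    have h6 : g * (x * y) * g⁻¹ = g * (y * x) * g⁻¹ := by
      calc g * (x * y) * g⁻¹ = g * x * g⁻¹ * (g * y * g⁻¹) := by group
        _ = g * y * g⁻¹ * (g * x * g⁻¹) := h5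
        _ = g * (y * x) * g⁻¹ := by group
    exact mul_left_cancel (mul_right_cancel h6)
  rcases hcen y hyS h2 with h | h
  · exfalso
    rw [h, mul_one, mul_inv_cancel] at hyz
    exact hz1 (α.injective (by rw [← hyz, map_one]))
  · rw [h] at hyz; exact hyz.symm

theorem index_cases [Finite K] {z : K} (hz1 : z ≠ 1)
    (syl : ∃ S : Sylow 2 K, z ∈ S ∧ (∀ x ∈ S, x * z = z * x) ∧ ∀ y ∈ S, (∀ x ∈ S, x * y = y * x) → y = 1 ∨ y = z)
    (h : ∀ α β : MulAut K, α z = z → β z = z → α ∈ (MulAut.conj : K →* MulAut K).range ∨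
      β ∈ (MulAut.conj : K →* MulAut K).range ∨ α * β⁻¹ ∈ (MulAut.conj : K →* MulAut K).range) :
    (MulAut.conj : K →* MulAut K).range.index = 1 ∨ (MulAut.conj : K →* MulAut K).range.index = 2 := by
  set I := (MulAut.conj : K →* MulAut K).range with hI
  -- reduction to automorphisms fixing `z`
  have hred : ∀ α : MulAut K, ∃ i ∈ I, ∃ α' : MulAut K, α' z = z ∧ α = i * α' := by
    intro α
    obtain ⟨g, hg⟩ := exists_conj_z hz1 syl α
    refine ⟨MulAut.conj g, ⟨g, rfl⟩, (MulAut.conj g)⁻¹ * α, ?_, by rw [mul_inv_cancel_left]⟩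
    rw [MulAut.mul_apply, hg, ← map_inv, MulAut.conj_apply, inv_inv]
    group
  have hall : ∀ α β : MulAut K, α ∈ I ∨ β ∈ I ∨ α * β⁻¹ ∈ I := by
    intro α β
    obtain ⟨i, hi, α', hα', rfl⟩ := hred α
    obtain ⟨j, hj, β', hβ', rfl⟩ := hred β
    rcases h α' β' hα' hβ' with h1 | h1 | h1
    · exact Or.inl (I.mul_mem hi h1)
    · exact Or.inr (Or.inl (I.mul_mem hj h1))
    · right; right
      have e : i * α' * (j * β')⁻¹ = i * (α' * β'⁻¹) * j⁻¹ := by group
      rw [e]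
      exact I.mul_mem (I.mul_mem hi h1) (I.inv_mem hj)
  by_cases htop : I = ⊤
  · left; rw [htop, Subgroup.index_top]
  right
  obtain ⟨γ, hγ⟩ : ∃ γ, γ ∉ I := by
    by_contra hcon
    push Not at hcon
    exact htop ((Subgroup.eq_top_iff' I).2 hcon)
  rw [Subgroup.index_eq_two_iff]
  refine ⟨γ⁻¹, fun b => ?_⟩
  by_cases hb : b ∈ I
  · right
    refine ⟨hb, fun hc => hγ ?_⟩
    have := I.mul_mem (I.inv_mem hc) hb
    rwa [mul_inv_rev, inv_inv, inv_mul_cancel_right] at this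
  · left
    refine ⟨?_, hb⟩
    rcases hall b γ with h1 | h1 | h1
    · exact absurd h1 hb
    · exact absurd h1 hγ
    · exact h1

theorem out_of [Finite K]
    (h : (MulAut.conj : K →* MulAut K).range.index = 1 ∨ (MulAut.conj : K →* MulAut K).range.index = 2) :
    ¬ 4 ∣ (MulAut.conj : K →* MulAut K).range.index := by
  rcases h with h | h <;> rw [h] <;> decide

theorem schreier_of [Finite K]
    (h : (MulAut.conj : K →* MulAut K).range.index = 1 ∨ (MulAut.conj : K →* MulAut K).range.index = 2) :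
    ∃ n, TR.dser n (⊤ : Subgroup (MulAut K)) ≤ (MulAut.conj : K →* MulAut K).range := by
  refine ⟨1, ?_⟩
  rw [show (1 : ℕ) = 0 + 1 by rfl, TR.dser_succ', TR.dser_zero, Subgroup.commutator_le]
  rcases h with h | h
  · intro a _ b _
    rw [Subgroup.index_eq_one.1 h]
    exact Subgroup.mem_top _
  · intro a _ b _
    rw [commutatorElement_def, Subgroup.mul_mem_iff_of_index_two h, Subgroup.mul_mem_iff_of_index_two h,
      Subgroup.mul_mem_iff_of_index_two h, inv_mem_iff, inv_mem_iff]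
    tauto

end Cfsg.Agent.KFacts.OutIdx

end

-- merged: Cfsg.Agent.KFacts.HN.Outer
section

/-!
# The outer automorphisms of the presented Harada-Norton group

An automorphism fixing `W0` induces on `R/⟨W0⟩` a colour preserving additive map (`gam_of_aut`), hence by `gn` what an
element of `C(W0)` induces, up to the reflection `PHI`. Given that automorphisms trivial on `R/⟨W0⟩` are inner (`Aut0`),
`|Aut : Inn| ≤ 2`.
-/

set_option autoImplicit false
set_option Elab.async false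

namespace Cfsg.Agent.KFacts.HN

open Cfsg.Agent.HN Cfsg.Agent.HN.Pres Cfsg.Agent.HN.P1408 Cfsg.Agent.HN.H0Basic Cfsg.Agent.HN.XMat
open Cfsg.Agent.HN.XStruct Cfsg.Agent.HN.XWords Cfsg.Agent.HN.XQuot Cfsg.Agent.HN.XInst Cfsg.Agent.HN.FusGen
open Cfsg.Agent.SporadicA.PermTab (band_eq_true allB allB_iff)

theorem r_mem_RS' (m : ℕ) : r Q m ∈ RS := by
  have hQ : ∀ i < 8, Q i ∈ RS := fun i hi => by
    have := r_mem_RS (m := 2 ^ i) (Nat.pow_lt_pow_right (by norm_num) hi)
    rwa [Bas.r_pow hi] at this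
  have key : ∀ n ≤ 8, rr Q m n ∈ RS := by
    intro n
    induction n with
    | zero => intro _; exact RS.one_mem
    | succ n ih =>
      intro hn
      rw [rr_succ]
      refine RS.mul_mem (ih (by omega)) ?_
      split
      · exact hQ n (by omega)
      · exact RS.one_mem
  exact key 8 le_rfl

theorem isPGroup_RS_two : IsPGroup 2 RS := by
  rintro ⟨x, hx⟩
  refine ⟨2, Subtype.ext ?_⟩
  obtain ⟨m, -, b, rfl⟩ := mem_RS.1 hx
  obtain ⟨c, hc⟩ := r_mul (a := m) (b := m)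
  rw [Nat.xor_self, show r Q 0 = 1 from Bas.r_zero, one_mul] at hc
  have h1 := sgn_comm b (r_mem_PP m)
  have h2 : (r Q m * sgn0 b) * (r Q m * sgn0 b) = sgn0 c := by
    calc (r Q m * sgn0 b) * (r Q m * sgn0 b) = r Q m * (sgn0 b * r Q m) * sgn0 b := by group
      _ = r Q m * r Q m * (sgn0 b * sgn0 b) := by rw [← h1]; group
      _ = sgn0 c := by rw [hc, sgn0_mul, Bool.xor_self]; exact mul_one _
  change (r Q m * sgn0 b) ^ (2 ^ 2) = 1
  rw [show (2 : ℕ) ^ 2 = 2 + 2 by norm_num, pow_add, pow_two, h2, sgn0_mul, Bool.xor_self]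
  rfl

variable {α : MulAut Cfsg.Spor.HN}

theorem map_PP (hα : α W0 = W0) {x : Cfsg.Spor.HN} (hx : x ∈ PP) : α x ∈ PP := by
  rw [mem_PP] at hx ⊢
  calc α x * W0 = α (x * W0) := by rw [map_mul, hα]
    _ = W0 * α x := by rw [hx, map_mul, hα]

theorem inv_fix (hα : α W0 = W0) : α⁻¹ W0 = W0 := by
  conv_lhs => rw [← hα]
  exact MulAut.inv_apply_self _ _ _

theorem map_RS (hα : α W0 = W0) {x : Cfsg.Spor.HN} (hx : x ∈ RS) : α x ∈ RS := by
  have h1 : RS.map α.toMonoidHom ≤ RS := by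
    apply two_group_le
    · rintro _ ⟨y, hy, rfl⟩
      exact map_PP hα (RS_le_PP hy)
    · rintro u hu _ ⟨y, hy, rfl⟩
      refine ⟨α⁻¹ u * y * (α⁻¹ u)⁻¹, conj_RS (map_PP (inv_fix hα) (MM_le_PP hu)) hy, ?_⟩
      change α (α⁻¹ u * y * (α⁻¹ u)⁻¹) = u * α y * u⁻¹
      rw [map_mul α, map_mul α, map_inv α, MulAut.apply_inv_self]
    · exact isPGroup_RS_two.map _
  exact h1 ⟨x, hx, rfl⟩

theorem mask_unique {m m' : ℕ} (hm : m < 256) (hm' : m' < 256) {b b' : Bool}
    (h : r Q m * sgn0 b = r Q m' * sgn0 b') : m = m' := by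
  apply hyp.toBas.r_inj hm hm'
  have h1 : ∀ m b, π W0 (r Q m * sgn0 b) = r k m := by
    intro m b
    cases b
    · rw [show sgn0 false = 1 from rfl, mul_one, π_r]
    · rw [show sgn0 true = W0 from rfl, π_mul_w W0_sq (comm_r m), π_r]
  rw [← h1 m b, ← h1 m' b', h]

/-- the squares -/
theorem sq_ne_of_conj {A x : Cfsg.Spor.HN} (hA : A * A = 1) (h : IsConj A x) : x * x = 1 := by
  obtain ⟨c, rfl⟩ := isConj_iff.1 h
  calc c * A * c⁻¹ * (c * A * c⁻¹) = c * (A * A) * c⁻¹ := by group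
    _ = 1 := by rw [hA]; group

/-- the map of masks induced by an automorphism fixing `W0` -/
theorem exists_gam (hα : α W0 = W0) : ∃ x : ℕ → ℕ, Gam x ∧ ∀ m, ∃ b : Bool, α (r Q m) = r Q (x m) * sgn0 b := by
  have h0 : ∀ m, ∃ m' < 256, ∃ b : Bool, α (r Q m) = r Q m' * sgn0 b := fun m =>
    mem_RS.1 (map_RS hα (r_mem_RS' m))
  choose x hlt b hb using h0
  refine ⟨x, ?_, fun m => ⟨b m, hb m⟩⟩
  have hsg : ∀ c, α (sgn0 c) = sgn0 c := by
    intro c; cases c
    · exact map_one α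
    · exact hα
  have hQ0 : Q 0 * Q 0 = 1 := Q_sq (by norm_num)
  have hWs : W0 * W0 = 1 := W0_sq
  -- value at `m` is `r Q (x m)` with a sign, for all signs
  have hval : ∀ m c, α (r Q m * sgn0 c) = r Q (x m) * sgn0 (b m ^^ c) := by
    intro m c
    rw [map_mul, hsg, hb, mul_assoc, sgn0_mul]
  have hinv : ∀ u v : Cfsg.Spor.HN, IsConj u v → IsConj (α u) (α v) := fun u v h => α.toMonoidHom.map_isConj h
  have hsq1 : ∀ m < 256, (∀ c, (r Q m * sgn0 c) * (r Q m * sgn0 c) = 1) → ¬ CF.testBit (x m) = true := by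
    intro m _ h hF
    have h2 := kind_F (hlt m) hF (b m)
    rw [← hb m, ← map_mul] at h2
    have h3 := h false
    rw [show sgn0 false = 1 from rfl, mul_one] at h3
    rw [h3, map_one] at h2
    exact W0_ne h2.symm
  have hz : ∀ m < 256, x m = 0 → m = 0 := by
    intro m hm h
    have h2 := hb m
    rw [h, show r Q 0 = 1 from Bas.r_zero, one_mul, ← hsg] at h2
    have h3 := α.injective h2
    apply mask_unique hm (by norm_num : 0 < 256) (b := false) (b' := b m)
    rw [show r Q 0 = 1 from Bas.r_zero, one_mul, ← h3, show sgn0 false = 1 from rfl, mul_one]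
  have hne0 : ∀ C : ℕ, C.testBit 0 = false → ∀ m < 256, C.testBit m = true → x m ≠ 0 := by
    intro C hC m hm h h1
    rw [hz m hm h1, hC] at h
    exact absurd h (by decide)
  refine ⟨?_, hlt, ?_, ?_, ?_⟩
  · intro a c
    obtain ⟨d, hd⟩ := r_mul (a := a) (b := c)
    obtain ⟨d', hd'⟩ := r_mul (a := x a) (b := x c)
    have h1 := congrArg α hd
    rw [map_mul, hb a, hb c, hval] at h1
    have h2 : r Q (x a) * sgn0 (b a) * (r Q (x c) * sgn0 (b c)) =
        r Q (x a ^^^ x c) * sgn0 (d' ^^ (b a ^^ b c)) := by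
      have h3 := sgn_comm (b a) (r_mem_PP (x c))
      calc r Q (x a) * sgn0 (b a) * (r Q (x c) * sgn0 (b c))
          = r Q (x a) * (sgn0 (b a) * r Q (x c)) * sgn0 (b c) := by group
        _ = r Q (x a) * r Q (x c) * (sgn0 (b a) * sgn0 (b c)) := by rw [← h3]; group
        _ = _ := by rw [hd', sgn0_mul, mul_assoc, sgn0_mul]
    rw [h2] at h1
    exact (mask_unique (Nat.xor_lt_two_pow (n := 8) (hlt a) (hlt c)) (hlt _) h1).symm
  · intro m hm h
    have hc := kind_D hm h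
    rcases kinds (hlt m) with h1 | h1 | h1 | h1
    · exact absurd h1 (hne0 CD (by decide +kernel) m hm h)
    · exact h1.1
    · exfalso
      have h2 := h1.2 (b m)
      rw [← hb m] at h2
      have h3 := hinv _ _ (hc false)
      rw [show sgn0 false = 1 from rfl, mul_one] at h3
      have h4 := h3.trans h2.symm
      have h5 : IsConj (α⁻¹ (α (Q 0))) (α⁻¹ W0) := (α⁻¹).toMonoidHom.map_isConj h4
      rw [MulAut.inv_apply_self, inv_fix hα] at h5
      exact not_conj_QW h5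
    · exact absurd h1.1 (hsq1 m hm fun c => sq_ne_of_conj hQ0 (hc c))
  · intro m hm h
    have hc := kind_S hm h
    rcases kinds (hlt m) with h1 | h1 | h1 | h1
    · exact absurd h1 (hne0 CS (by decide +kernel) m hm h)
    · exfalso
      have h2 := h1.2 (b m)
      rw [← hb m] at h2
      have h3 := hinv _ _ (hc false)
      rw [show sgn0 false = 1 from rfl, mul_one, hα] at h3
      exact not_conj_QW (h2.trans h3.symm)
    · exact h1.1
    · exact absurd h1.1 (hsq1 m hm fun c => sq_ne_of_conj hWs (hc c))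
  · intro m hm h
    have hc := kind_F hm h
    have hno : ∀ A : Cfsg.Spor.HN, A * A = 1 → ¬ IsConj A (r Q (x m) * sgn0 (b m)) := by
      intro A hA h2
      have h3 := sq_ne_of_conj hA h2
      rw [← hb m, ← map_mul] at h3
      have h4 := hc false
      rw [show sgn0 false = 1 from rfl, mul_one] at h4
      rw [h4, hα] at h3
      exact W0_ne h3
    rcases kinds (hlt m) with h1 | h1 | h1 | h1
    · exact absurd h1 (hne0 CF (by decide +kernel) m hm h)
    · exact absurd (h1.2 _) (hno _ hQ0)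
    · exact absurd (h1.2 _) (hno _ hWs)
    · exact h1.1

/-- automorphisms fixing `W0` and trivial on `R/⟨W0⟩` are inner -/
def Aut0 : Prop := ∀ α : MulAut Cfsg.Spor.HN, α W0 = W0 → (∀ x ∈ RS, α x = x ∨ α x = x * W0) →
  ∃ r ∈ RS, α = MulAut.conj r

/-- form of an automorphism fixing `W0` -/
theorem aut_form (hα : α W0 = W0) : ∃ u ∈ PP, (∀ m < 256, ∃ b : Bool, (MulAut.conj u * α) (r Q m) = r Q m * sgn0 b) ∨
    (∀ m < 256, ∃ b : Bool, (MulAut.conj u * α) (r Q m) = r Q (app PHI m) * sgn0 b) := by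
  obtain ⟨x, hx, hxα⟩ := exists_gam hα
  obtain ⟨w, hw⟩ := gn hx
  refine ⟨evw Γ w, e_mem_PP w, ?_⟩
  have key : ∀ m y, y < 256 → x m = app (mw w) y → ∃ b : Bool, (MulAut.conj (evw Γ w) * α) (r Q m) = r Q y * sgn0 b := by
    intro m y hy h
    obtain ⟨b, hb⟩ := hxα m
    obtain ⟨c, hc⟩ := r_conj (e_mem_PP w) (acts_e w) y
    refine ⟨c ^^ b, ?_⟩
    rw [MulAut.mul_apply, hb, h, MulAut.conj_apply]
    have h1 := sgn_comm c (e_mem_PP w)
    have h2 := sgn_comm b (PP.inv_mem (e_mem_PP w))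
    have h3 : r Q (app (mw w) y) = (evw Γ w)⁻¹ * r Q y * evw Γ w * sgn0 c := by
      rw [hc, mul_assoc, sgn0_mul, Bool.xor_self]
      exact (mul_one _).symm
    have h4 := sgn_comm c (PP.inv_mem (e_mem_PP w))
    rw [h3]
    calc evw Γ w * ((evw Γ w)⁻¹ * r Q y * evw Γ w * sgn0 c * sgn0 b) * (evw Γ w)⁻¹
        = r Q y * evw Γ w * sgn0 c * (sgn0 b * (evw Γ w)⁻¹) := by group
      _ = r Q y * evw Γ w * (sgn0 c * (evw Γ w)⁻¹) * sgn0 b := by rw [← h2]; group
      _ = r Q y * (sgn0 c * sgn0 b) := by rw [← h4]; group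
      _ = r Q y * sgn0 (c ^^ b) := by rw [sgn0_mul]
  rcases hw with hw | hw
  · left
    intro m hm
    exact key m m hm (hw m hm)
  · right
    intro m hm
    exact key m _ (app_lt _ _) (hw m hm)

theorem triv_of_masks {β : MulAut Cfsg.Spor.HN} (hβ : β W0 = W0)
    (h : ∀ m < 256, ∃ b : Bool, β (r Q m) = r Q m * sgn0 b) : ∀ x ∈ RS, β x = x ∨ β x = x * W0 := by
  intro x hx
  obtain ⟨m, hm, c, rfl⟩ := mem_RS.1 hx
  obtain ⟨b, hb⟩ := h m hm
  have hsg : β (sgn0 c) = sgn0 c := by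
    cases c
    · exact map_one β
    · exact hβ
  rw [map_mul, hsg, hb]
  cases b
  · left; rw [show sgn0 false = 1 from rfl, mul_one]
  · right
    rw [show sgn0 true = W0 from rfl, mul_assoc, mul_assoc]
    congr 1
    exact (comm_sgn c).symm

theorem conj_fix {u : Cfsg.Spor.HN} (hu : u ∈ PP) : MulAut.conj u W0 = W0 := by
  rw [MulAut.conj_apply, mem_PP.1 hu, mul_inv_cancel_right]

/-- two automorphisms fixing `W0` -/
theorem aut_pair (h0 : Aut0) (α β : MulAut Cfsg.Spor.HN) (hα : α W0 = W0) (hβ : β W0 = W0) :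
    α ∈ (MulAut.conj : Cfsg.Spor.HN →* MulAut Cfsg.Spor.HN).range ∨
    β ∈ (MulAut.conj : Cfsg.Spor.HN →* MulAut Cfsg.Spor.HN).range ∨
    α * β⁻¹ ∈ (MulAut.conj : Cfsg.Spor.HN →* MulAut Cfsg.Spor.HN).range := by
  set I := (MulAut.conj : Cfsg.Spor.HN →* MulAut Cfsg.Spor.HN).range with hI
  have hmem : ∀ u, MulAut.conj u ∈ I := fun u => ⟨u, rfl⟩
  have one : ∀ γ : MulAut Cfsg.Spor.HN, γ W0 = W0 → (∀ m < 256, ∃ b : Bool, γ (r Q m) = r Q m * sgn0 b) → γ ∈ I := by
    intro γ hγ h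
    obtain ⟨s, -, e⟩ := h0 γ hγ (triv_of_masks hγ h)
    rw [e]; exact hmem s
  have fixu : ∀ {γ : MulAut Cfsg.Spor.HN}, γ W0 = W0 → ∀ {u}, u ∈ PP → (MulAut.conj u * γ) W0 = W0 := by
    intro γ hγ u hu
    rw [MulAut.mul_apply, hγ, conj_fix hu]
  obtain ⟨u, hu, hu'⟩ := aut_form hα
  obtain ⟨v, hv, hv'⟩ := aut_form hβ
  rcases hu' with hu' | hu'
  · left
    have h1 := I.mul_mem (I.inv_mem (hmem u)) (one _ (fixu hα hu) hu')
    rwa [inv_mul_cancel_left] at h1
  rcases hv' with hv' | hv'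
  · right; left
    have h1 := I.mul_mem (I.inv_mem (hmem v)) (one _ (fixu hβ hv) hv')
    rwa [inv_mul_cancel_left] at h1
  right; right
  set α' := MulAut.conj u * α with hα'
  set β' := MulAut.conj v * β with hβ'
  have hβf : β' W0 = W0 := fixu hβ hv
  have hαf : α' W0 = W0 := fixu hα hu
  have hβi : β'⁻¹ W0 = W0 := inv_fix hβf
  have hγ : α' * β'⁻¹ ∈ I := by
    apply one
    · rw [MulAut.mul_apply, hβi, hαf]
    · intro m hm
      obtain ⟨b, hb⟩ := hv' (app PHI m) (app_lt _ _)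
      rw [app_PHI hm] at hb
      obtain ⟨c, hc⟩ := hu' (app PHI m) (app_lt _ _)
      rw [app_PHI hm] at hc
      have hsg : ∀ (δ : MulAut Cfsg.Spor.HN), δ W0 = W0 → ∀ c, δ (sgn0 c) = sgn0 c := by
        intro δ hδ c; cases c
        · exact map_one δ
        · exact hδ
      have h3 : β'⁻¹ (r Q m) = r Q (app PHI m) * sgn0 b := by
        have h4 : β' (r Q (app PHI m) * sgn0 b) = r Q m := by
          rw [map_mul, hb, hsg β' hβf, mul_assoc, sgn0_mul, Bool.xor_self]
          exact mul_one _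
        rw [← h4, MulAut.inv_apply_self]
      refine ⟨c ^^ b, ?_⟩
      rw [MulAut.mul_apply, h3, map_mul, hc, hsg α' hαf, mul_assoc, sgn0_mul]
  have h5 : α * β⁻¹ = (MulAut.conj u)⁻¹ * (α' * β'⁻¹) * MulAut.conj v := by
    rw [hα', hβ']; group
  rw [h5]
  exact I.mul_mem (I.mul_mem (I.inv_mem (hmem u)) hγ) (hmem v)

end Cfsg.Agent.KFacts.HN

end

-- merged: Cfsg.Agent.KFacts.HN.NoTr
section

/-!
# No element acts on `C_R(z')/⟨W0⟩` as a transvection with centre `z'`

`z' = r Q 3`. `no_tr`: an element `s ∈ C(W0)` with `s r s⁻¹ ∈ {r, r W0 z'}` for all `r ∈ C_R(z')` centralises `C_R(z')`.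
-/

set_option autoImplicit false
set_option Elab.async false

namespace Cfsg.Agent.KFacts.HN

open Cfsg.Agent.HN Cfsg.Agent.HN.Pres Cfsg.Agent.HN.P1408 Cfsg.Agent.HN.H0Basic Cfsg.Agent.HN.XMat
open Cfsg.Agent.HN.XStruct Cfsg.Agent.HN.XWords Cfsg.Agent.HN.XQuot Cfsg.Agent.HN.XInst Cfsg.Agent.HN.FusGen
open Cfsg.Agent.SporadicA.PermTab (band_eq_true allB allB_iff)

/-- commuting with `r Q 3` -/
theorem comm_three {i : ℕ} (hi : i < 8) : Q i * r Q 3 = r Q 3 * Q i * sgn0 ((Bm 0).testBit i ^^ (Bm 1).testBit i) := by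
  have e3 : r Q 3 = Q 0 * Q 1 := by
    change 1 * (if (3 : ℕ).testBit 0 = true then Q 0 else 1) * (if (3 : ℕ).testBit 1 = true then Q 1 else 1) *
      (if (3 : ℕ).testBit 2 = true then Q 2 else 1) * (if (3 : ℕ).testBit 3 = true then Q 3 else 1) *
      (if (3 : ℕ).testBit 4 = true then Q 4 else 1) * (if (3 : ℕ).testBit 5 = true then Q 5 else 1) *
      (if (3 : ℕ).testBit 6 = true then Q 6 else 1) * (if (3 : ℕ).testBit 7 = true then Q 7 else 1) = _
    simp [show (3 : ℕ).testBit 0 = true by decide, show (3 : ℕ).testBit 1 = true by decide,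
      show (3 : ℕ).testBit 2 = false by decide, show (3 : ℕ).testBit 3 = false by decide,
      show (3 : ℕ).testBit 4 = false by decide, show (3 : ℕ).testBit 5 = false by decide,
      show (3 : ℕ).testBit 6 = false by decide, show (3 : ℕ).testBit 7 = false by decide]
  have h0 := Q_comm hi (j := 0) (by norm_num)
  have h1 := Q_comm hi (j := 1) (by norm_num)
  have h2 := cws (i := 1) (by norm_num) ((Bm 0).testBit i)
  rw [e3]
  calc Q i * (Q 0 * Q 1) = Q i * Q 0 * Q 1 := by group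
    _ = Q 0 * Q i * (sgn0 ((Bm 0).testBit i) * Q 1) := by rw [h0]; group
    _ = Q 0 * (Q i * Q 1) * sgn0 ((Bm 0).testBit i) := by rw [h2]; group
    _ = Q 0 * Q 1 * Q i * (sgn0 ((Bm 1).testBit i) * sgn0 ((Bm 0).testBit i)) := by rw [h1]; group
    _ = _ := by rw [sgn0_mul, Bool.xor_comm]

/-- the sign of the commutator of `r Q m` (first `n` bits) and `r Q 3` -/
def f3 (m n : ℕ) : Bool := Nat.rec false (fun i acc => acc ^^ (m.testBit i && ((Bm 0).testBit i ^^ (Bm 1).testBit i))) n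

theorem comm_rr_three (m : ℕ) : ∀ n ≤ 8, rr Q m n * r Q 3 = r Q 3 * rr Q m n * sgn0 (f3 m n) := by
  intro n
  induction n with
  | zero =>
    intro _
    change 1 * r Q 3 = r Q 3 * 1 * 1
    rw [one_mul, mul_one, mul_one]
  | succ n ih =>
    intro hn
    have h1 := ih (by omega)
    have e : f3 m (n + 1) = (f3 m n ^^ (m.testBit n && ((Bm 0).testBit n ^^ (Bm 1).testBit n))) := rfl
    rw [rr_succ, e]
    cases hb : m.testBit n
    · simp only [Bool.false_eq_true, if_false, mul_one, Bool.false_and, Bool.xor_false]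
      exact h1
    · simp only [if_true, Bool.true_and]
      have h2 := comm_three (i := n) (by omega)
      set c := (Bm 0).testBit n ^^ (Bm 1).testBit n
      have h3 := cws (i := n) (by omega) (f3 m n)
      calc rr Q m n * Q n * r Q 3 = rr Q m n * (Q n * r Q 3) := by group
        _ = rr Q m n * r Q 3 * Q n * sgn0 c := by rw [h2]; group
        _ = r Q 3 * rr Q m n * (sgn0 (f3 m n) * Q n) * sgn0 c := by rw [h1]; group
        _ = r Q 3 * (rr Q m n * Q n) * (sgn0 (f3 m n) * sgn0 c) := by rw [h3]; group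
        _ = _ := by rw [sgn0_mul]

theorem comm_r_three (m : ℕ) : r Q m * r Q 3 = r Q 3 * r Q m * sgn0 (f3 m 8) := comm_rr_three m 8 le_rfl

theorem sgn_inj {b : Bool} (h : sgn0 b = 1) : b = false := by
  cases b
  · rfl
  · exact absurd h W0_ne

theorem f3_of_comm {m : ℕ} (h : r Q m * r Q 3 = r Q 3 * r Q m) : f3 m 8 = false := by
  have h1 := comm_r_three m
  rw [h] at h1
  exact sgn_inj (mul_eq_left.1 h1.symm)

theorem chk_f3 : allB (fun m => Bool.or (f3 m 8) (Nat.beq m (Nat.xor (Nat.land m 63) (cond (m.testBit 6) 192 0)))) 256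
    = true := by decide +kernel

theorem chk_f3' : f3 4 8 = false ∧ f3 5 8 = false ∧ f3 6 8 = false ∧ f3 16 8 = false ∧ f3 24 8 = false ∧
    f3 36 8 = false ∧ f3 196 8 = false := by decide +kernel

theorem comm_of_f3 {m : ℕ} (h : f3 m 8 = false) : r Q m * r Q 3 = r Q 3 * r Q m := by
  have h1 := comm_r_three m
  rw [h] at h1
  exact h1.trans (mul_one _)

/-- **no transvections** -/
theorem no_tr {s : Cfsg.Spor.HN} (hs : s ∈ PP)
    (h : ∀ x ∈ RS, x * r Q 3 = r Q 3 * x → s * x * s⁻¹ = x ∨ s * x * s⁻¹ = x * (W0 * r Q 3)) :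
    ∀ x ∈ RS, x * r Q 3 = r Q 3 * x → s * x * s⁻¹ = x := by
  have hsg : ∀ b, s * sgn0 b * s⁻¹ = sgn0 b := by
    intro b
    rw [sgn_comm b hs, mul_inv_cancel_right]
  -- masks
  have hadd : ∀ a b, s * r Q a * s⁻¹ = r Q a → s * r Q b * s⁻¹ = r Q b → s * r Q (a ^^^ b) * s⁻¹ = r Q (a ^^^ b) := by
    intro a b ha hb
    obtain ⟨c, hc⟩ := r_mul (a := a) (b := b)
    have h1 : r Q (a ^^^ b) = r Q a * r Q b * sgn0 c := by
      rw [hc, mul_assoc, sgn0_mul, Bool.xor_self]; exact (mul_one _).symm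
    rw [h1]
    calc s * (r Q a * r Q b * sgn0 c) * s⁻¹ = (s * r Q a * s⁻¹) * (s * r Q b * s⁻¹) * (s * sgn0 c * s⁻¹) := by group
      _ = r Q a * r Q b * sgn0 c := by rw [ha, hb, hsg]
  have hzero : s * r Q 0 * s⁻¹ = r Q 0 := by
    rw [show r Q 0 = 1 from Bas.r_zero]; group
  have htr : ∀ m, ∃ c : Bool, r Q m * (W0 * r Q 3) = r Q (m ^^^ 3) * sgn0 c := by
    intro m
    obtain ⟨c, hc⟩ := r_mul (a := m) (b := 3)
    refine ⟨c ^^ true, ?_⟩
    rw [← sgn0_mul, ← comm_r 3, ← mul_assoc, hc, mul_assoc]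
    rfl
  -- masks whose colour differs from the colour of `m ^^^ 3`
  have hDS : ∀ m < 256, f3 m 8 = false → (CD.testBit m = true ∧ CS.testBit (m ^^^ 3) = true) →
      s * r Q m * s⁻¹ = r Q m := by
    intro m hm hf hc
    rcases h _ (r_mem_RS' m) (comm_of_f3 hf) with h1 | h1
    · exact h1
    exfalso
    obtain ⟨c, hc'⟩ := htr m
    rw [hc'] at h1
    have h2 : IsConj (r Q m) (r Q (m ^^^ 3) * sgn0 c) := isConj_iff.2 ⟨s, h1⟩
    have h3 := kind_D hm hc.1 false
    rw [show sgn0 false = 1 from rfl, mul_one] at h3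
    exact not_conj_QW ((h3.trans h2).trans
      (kind_S (Nat.xor_lt_two_pow (n := 8) hm (by norm_num)) hc.2 c).symm)
  have hSD : ∀ m < 256, f3 m 8 = false → (CS.testBit m = true ∧ CD.testBit (m ^^^ 3) = true) →
      s * r Q m * s⁻¹ = r Q m := by
    intro m hm hf hc
    rcases h _ (r_mem_RS' m) (comm_of_f3 hf) with h1 | h1
    · exact h1
    exfalso
    obtain ⟨c, hc'⟩ := htr m
    rw [hc'] at h1
    have h2 : IsConj (r Q m) (r Q (m ^^^ 3) * sgn0 c) := isConj_iff.2 ⟨s, h1⟩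
    have h3 := kind_S hm hc.1 false
    rw [show sgn0 false = 1 from rfl, mul_one] at h3
    exact not_conj_QW ((h3.trans h2).trans
      (kind_D (Nat.xor_lt_two_pow (n := 8) hm (by norm_num)) hc.2 c).symm).symm
  have hdif : ∀ m < 256, f3 m 8 = false → ((CD.testBit m = true ∧ CS.testBit (m ^^^ 3) = true) ∨
      (CS.testBit m = true ∧ CD.testBit (m ^^^ 3) = true)) → s * r Q m * s⁻¹ = r Q m := by
    intro m hm hf hc
    rcases hc with hc | hc
    · exact hDS m hm hf hc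
    · exact hSD m hm hf hc
  obtain ⟨f4, f5, f6, f16, f24, f36, f196⟩ := chk_f3'
  have d4 := hdif 4 (by norm_num) f4 (by decide +kernel)
  have d5 := hdif 5 (by norm_num) f5 (by decide +kernel)
  have d6 := hdif 6 (by norm_num) f6 (by decide +kernel)
  have d16 := hdif 16 (by norm_num) f16 (by decide +kernel)
  have d24 := hdif 24 (by norm_num) f24 (by decide +kernel)
  have d36 := hdif 36 (by norm_num) f36 (by decide +kernel)
  have d196 := hdif 196 (by norm_num) f196 (by decide +kernel)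
  have d1 : s * r Q 1 * s⁻¹ = r Q 1 := hadd 4 5 d4 d5
  have d2 : s * r Q 2 * s⁻¹ = r Q 2 := hadd 4 6 d4 d6
  have d8 : s * r Q 8 * s⁻¹ = r Q 8 := hadd 16 24 d16 d24
  have d32 : s * r Q 32 * s⁻¹ = r Q 32 := hadd 4 36 d4 d36
  have d192 : s * r Q 192 * s⁻¹ = r Q 192 := hadd 4 196 d4 d196
  have hbit : ∀ i < 6, s * r Q (2 ^ i) * s⁻¹ = r Q (2 ^ i) := by
    intro i hi
    interval_cases i
    · exact d1
    · exact d2
    · exact d4
    · exact d8
    · exact d16
    · exact d32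
  have hlow : ∀ n ≤ 6, ∀ m, s * r Q (m % 2 ^ n) * s⁻¹ = r Q (m % 2 ^ n) := by
    intro n
    induction n with
    | zero => intro _ m; rw [pow_zero, Nat.mod_one]; exact hzero
    | succ n ih =>
      intro hn m
      rw [mod_succ]
      refine hadd _ _ (ih (by omega) m) ?_
      split
      · exact hbit n (by omega)
      · exact hzero
  intro x hx hxc
  obtain ⟨m, hm, b, rfl⟩ := mem_RS.1 hx
  have hf : f3 m 8 = false := by
    apply f3_of_comm
    have h1 := sgn_comm b (r_mem_PP 3)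
    have h2 : r Q m * r Q 3 * sgn0 b = r Q 3 * r Q m * sgn0 b := by
      calc r Q m * r Q 3 * sgn0 b = r Q m * (sgn0 b * r Q 3) := by rw [← h1]; group
        _ = r Q 3 * r Q m * sgn0 b := by rw [← mul_assoc, hxc]; group
    exact mul_right_cancel h2
  have h1 := (allB_iff _ _).1 chk_f3 m hm
  rw [hf] at h1
  have h2 : m = (m &&& 63) ^^^ (cond (m.testBit 6) 192 0) := Nat.eq_of_beq_eq_true h1
  have h3 : m &&& 63 = m % 2 ^ 6 := Nat.and_two_pow_sub_one_eq_mod m 6
  have h4 : s * r Q m * s⁻¹ = r Q m := by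
    rw [h2, h3]
    refine hadd _ _ (hlow 6 le_rfl m) ?_
    cases m.testBit 6
    · exact hzero
    · exact d192
  calc s * (r Q m * sgn0 b) * s⁻¹ = (s * r Q m * s⁻¹) * (s * sgn0 b * s⁻¹) := by group
    _ = r Q m * sgn0 b := by rw [h4, hsg]

end Cfsg.Agent.KFacts.HN

end

-- merged: Cfsg.Agent.KFacts.HN.Aut0
section

/-!
# Automorphisms of the presented Harada-Norton group trivial on `R/⟨W0⟩`
-/

set_option autoImplicit false

namespace Cfsg.Agent.KFacts.HN

open Cfsg.Agent.HN Cfsg.Agent.HN.XStruct Cfsg.Agent.HN.XWords Cfsg.Agent.HN.XQuot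
open Cfsg.Agent.KFacts.HN.CentTwoHN (z' n n_W0 n_z')

theorem hidx {c d : Cfsg.Spor.HN} (hc : c ∈ PP) (hd : d ∈ PP) (hcM : c ∉ MM) (hdM : d ∉ MM) : c⁻¹ * d ∈ MM := by
  have h1 := (PP_or hc).resolve_left hcM
  have h2 := (PP_or hd).resolve_left hdM
  have h3 := MM.mul_mem (MM.inv_mem h1) h2
  have h4 := conj_MM (PP.inv_mem (e_mem_PP [1])) h3
  have e : (evw XWords.Γ [1])⁻¹ * ((c * (evw XWords.Γ [1])⁻¹)⁻¹ * (d * (evw XWords.Γ [1])⁻¹)) *
      (evw XWords.Γ [1])⁻¹⁻¹ = c⁻¹ * d := by group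
  rwa [e] at h4

/-- **automorphisms fixing `W0` and trivial on `R/⟨W0⟩`** -/
theorem aut0 {α : MulAut Cfsg.Spor.HN} (hz : α W0 = W0)
    (ht : ∀ x ∈ RS, α x = x ∨ α x = x * W0) : ∃ y ∈ RS, α = MulAut.conj y := by
  have := finite_HN
  refine LargeIndexTwo.aut0 large MM_perfect (fun u hu => mem_PP.1 (MM_le_PP hu))
    (fun c d hc hd => hidx (mem_PP.2 hc) (mem_PP.2 hd)) (n := n) (z' := z') (r0 := Q 2) ?_ ?_ ?_ ?_
    CentTwoHN.hgen (Q_mem_RS (by norm_num)) Fields.q2_z' Fields.n_q2_notMem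
    (fun s hs => no_tr (mem_PP.2 hs)) hz ht
  · rw [n_W0, mul_inv_cancel_right]
  · rw [n_z', mul_inv_cancel_right]
  · exact r_mem_RS (by norm_num)
  · exact fun h => CentTwoHN.z'_ne h.symm

/-- **automorphisms of 2-power order fixing `W0` and trivial on `M/R`** -/
theorem aut_field (α : MulAut Cfsg.Spor.HN) (hp : IsPGroup 2 (Subgroup.zpowers α)) (hz : α W0 = W0)
    (hM : ∀ x ∈ MM, x⁻¹ * α x ∈ RS) : ∃ y ∈ RS, α = MulAut.conj y := by
  have := finite_HN
  exact aut0 hz (LargeIndexTwo.triv_of_two large (fun u hu => mem_PP.1 (MM_le_PP hu)) RS_le_MM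
    (fun N h1 h2 => irr h1 h2) exists_noncentral hp hz hM)

theorem aut0_prop : Aut0 := fun _ hz ht => aut0 hz ht

/-- an automorphism centralising `M` is `1` or the conjugation by `W0` -/
theorem cent_MM {α : MulAut Cfsg.Spor.HN} (hα : ∀ x ∈ MM, α x = x) :
    α = 1 ∨ α = MulAut.conj W0 := by
  obtain ⟨y, hy, rfl⟩ := aut0 (hα _ (RS_le_MM W0_mem_RS)) (fun x hx => Or.inl (hα x (RS_le_MM hx)))
  rcases cent_RS (x := y) (fun x hx => by
    have := hα x (RS_le_MM hx)
    rw [MulAut.conj_apply] at this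
    exact mul_inv_eq_iff_eq_mul.1 this) with h | h
  · left; rw [h, map_one]
  · right; rw [h]

/-- `M` is the last term of the derived series of `C(W0)` -/
theorem comm_le_MM {a b : Cfsg.Spor.HN} (ha : a ∈ PP) (hb : b ∈ PP) : a * b * a⁻¹ * b⁻¹ ∈ MM := by
  by_cases haM : a ∈ MM
  · have h1 := conj_MM hb (MM.inv_mem haM)
    have h2 := MM.mul_mem haM h1
    have e : a * (b * a⁻¹ * b⁻¹) = a * b * a⁻¹ * b⁻¹ := by group
    rwa [e] at h2
  · by_cases hbM : b ∈ MM
    · have h1 := conj_MM ha hbM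
      exact MM.mul_mem h1 (MM.inv_mem hbM)
    · have h1 : a * b ∈ MM := by
        have := hidx (PP.inv_mem ha) hb (fun h => haM (by simpa using MM.inv_mem h)) hbM
        rwa [inv_inv] at this
      have h2 : a⁻¹ * b⁻¹ ∈ MM := hidx ha (PP.inv_mem hb) haM (fun h => hbM (by simpa using MM.inv_mem h))
      have h3 := MM.mul_mem h1 h2
      have e : a * b * (a⁻¹ * b⁻¹) = a * b * a⁻¹ * b⁻¹ := by group
      rwa [e] at h3

end Cfsg.Agent.KFacts.HN

end
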