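import Cfsg.Agent.KFacts.HN.Inst
import Cfsg.Agent.HN.XFinal
import Cfsg.Agent.Lib.AltCarmichael

-- merged: Cfsg.Agent.KFacts.HN.Norm
section

/-!
# The centraliser of the 2-central involution `W0` of the presented Harada-Norton group

Normal form of the elements of `C(W0)`, the normal subgroup `R = ⟨W0, Q 0, .., Q 7⟩` of order `512`, the action on
`R/⟨W0⟩` by packed matrices.
-/

set_option autoImplicit false

namespace Cfsg.Agent.KFacts.HN

open Cfsg.Agent.HN Cfsg.Agent.HN.Pres Cfsg.Agent.HN.P1408 Cfsg.Agent.HN.H0Basic Cfsg.Agent.HN.XMat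
open Cfsg.Agent.HN.XStruct Cfsg.Agent.HN.XWords Cfsg.Agent.HN.XQuot Cfsg.Agent.HN.FusGen Cfsg.Agent.HN.XInst
open Cfsg.Agent.SporadicA.PermTab (band_eq_true allB allB_iff)

theorem disj : ∀ e ∈ DS W0 (NormalH.ψ τ), e ∉ SS W0 (NormalH.ψ τ) := XFinal.disj inst

theorem W0_ne : W0 ≠ 1 := inst.w_ne

/-- **normal form** -/
theorem nf {u : Cfsg.Spor.HN} (hu : u * W0 = W0 * u) :
    ∃ m < 256, ∃ w ∈ S5W, ∃ w' ∈ DW, ∃ b : Bool, u = r Q m * evw Γ w * evw Γ w' * sgn0 b := by
  have := finite_HN
  obtain ⟨m, hm, w, hw, w', hw', h⟩ := XClose.normal_form hyp disj (π W0 u)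
  have hc1 : W0 * (r Q m * evw Γ w) = r Q m * evw Γ w * W0 := by
    rw [← mul_assoc, cwr, mul_assoc, cwe, mul_assoc]
  have hc : W0 * (r Q m * evw Γ w * evw Γ w') = r Q m * evw Γ w * evw Γ w' * W0 := by
    rw [← mul_assoc, hc1, mul_assoc _ W0, cwe, ← mul_assoc]
  have h1 : π W0 (r Q m * evw Γ w * evw Γ w') = π W0 u := by
    have h2 : P (MonoidHom.id _) (r Q m * evw Γ w * evw Γ w') = r k m * evw γ w * evw γ w' := by
      rw [P_mul hc1 (cwe w'), P_nf, P_evw]
    rw [h]
    exact h2
  refine ⟨m, hm, w, hw, w', hw', ?_⟩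
  rcases (π_eq_iff W0_sq hc.symm hu).1 h1 with h | h
  · exact ⟨false, by rw [h]; exact (mul_one _).symm⟩
  · exact ⟨true, h⟩

theorem csg (b : Bool) (u : Cfsg.Spor.HN) (hu : u * W0 = W0 * u) : u * sgn0 b = sgn0 b * u := by
  cases b
  · exact (mul_one _).trans (one_mul _).symm
  · exact hu

/-- `W0` commutes with the normal forms -/
theorem comm_r (m : ℕ) : r Q m * W0 = W0 * r Q m := (cwr m).symm

theorem comm_e (w : List ℕ) : evw Γ w * W0 = W0 * evw Γ w := (cwe w).symm

theorem comm_sgn (b : Bool) : sgn0 b * W0 = W0 * sgn0 b := (csgn b).symm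

theorem comm_Q {i : ℕ} (hi : i < 8) : Q i * W0 = W0 * Q i := (cw hi).symm

/-- the elements of `R` -/
def IsR (x : Cfsg.Spor.HN) : Prop := ∃ m < 256, ∃ b : Bool, x = r Q m * sgn0 b

/-- product of two masks -/
theorem rr_mul_Q (m : ℕ) : ∀ n ≤ 8, ∀ i < 8, ∃ b : Bool, rr Q m n * Q i = Q i * rr Q m n * sgn0 b := by
  intro n hn i hi
  exact ⟨_, by rw [rr_comm m hi hn, mul_assoc]⟩

end Cfsg.Agent.KFacts.HN

end

-- merged: Cfsg.Agent.KFacts.HN.Quot
section

/-!
# `C(W0)/R = (A5 × A5).2`

The quotient `Lq` of `C(W0)` by `R = O_2(C(W0))`: it contains `A5 × A5` with index two and the remaining elements swap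
the factors.
-/

set_option autoImplicit false
set_option Elab.async false

namespace Cfsg.Agent.KFacts.HN

open Cfsg.Agent.HN Cfsg.Agent.HN.Pres Cfsg.Agent.HN.P1408 Cfsg.Agent.HN.H0Basic Cfsg.Agent.HN.XMat
open Cfsg.Agent.HN.XStruct Cfsg.Agent.HN.XWords Cfsg.Agent.HN.XQuot Cfsg.Agent.HN.FusGen Cfsg.Agent.HN.XInst
open Cfsg.Agent.HN.Closing
open Cfsg.Agent
open Cfsg.Agent.SporadicA.PermTab (band_eq_true allB allB_iff)
open Cfsg.Agent.Lib.AltCarmichael (Rel exists_hom cyc cyc_mem)

/-- `R/⟨W0⟩` -/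
noncomputable def Rk : Subgroup (KK W0) := XStruct.R hyp.toBas

theorem mem_Rk {x : KK W0} : x ∈ Rk ↔ ∃ m < 256, x = r k m := Iff.rfl

theorem acts_mem {x : KK W0} {P : ℕ} (hx : Acts k x P) {y : KK W0} (hy : y ∈ Rk) : x⁻¹ * y * x ∈ Rk := by
  obtain ⟨m, hm, rfl⟩ := hy
  rw [hyp.toBas.acts_r hx]
  exact r_mem_R _ (app_lt _ _)

/-- every element acts by a matrix -/
theorem exists_acts (x : KK W0) : ∃ w ∈ S5W, ∃ w' ∈ DW, Acts k x (mul (mw w) (mw w')) := by
  have := finite_HN
  obtain ⟨m, _, w, hw, w', hw', rfl⟩ := XClose.normal_form hyp disj x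
  exact ⟨w, hw, w', hw', hyp.acts_nf m w w'⟩

instance normal_Rk : Rk.Normal := by
  refine ⟨fun n hn g => ?_⟩
  obtain ⟨w, _, w', _, h⟩ := exists_acts g⁻¹
  have := acts_mem h hn
  rwa [inv_inv] at this

/-- `C(W0)/R` -/
abbrev Lq : Type := KK W0 ⧸ Rk

theorem acts_unique' {x : KK W0} {P P' : ℕ} (hP : P < 2 ^ 64) (hP' : P' < 2 ^ 64) (h : Acts k x P) (h' : Acts k x P') :
    P = P' := pack_ext hP hP' fun i hi => hyp.toBas.acts_unique h h' hi

/-- class of a word -/
noncomputable def e (w : List ℕ) : Lq := QuotientGroup.mk (evw γ w)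

theorem evw_append (v w : List ℕ) : evw γ (v ++ w) = evw γ v * evw γ w := by
  unfold evw; rw [List.map_append, List.prod_append]

theorem e_append (v w : List ℕ) : e (v ++ w) = e v * e w := by
  unfold e; rw [evw_append]; rfl

theorem e_nil : e [] = 1 := rfl

theorem e_eq {v w : List ℕ} (h : mw v = mw w) : e v = e w := by
  have h1 := hyp.toBas.acts_evw v
  have h2 := hyp.toBas.acts_evw w
  rw [← h] at h2
  have h3 : evw γ v * (evw γ w)⁻¹ ∈ Rk := hyp.quot_mem h2 h1
  unfold e
  rw [QuotientGroup.eq]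
  have h4 := normal_Rk.conj_mem _ (Rk.inv_mem h3) (evw γ v)⁻¹
  have h5 : (evw γ v)⁻¹ * evw γ w = (evw γ v)⁻¹ * (evw γ v * (evw γ w)⁻¹)⁻¹ * (evw γ v)⁻¹⁻¹ := by group
  rw [h5]; exact h4

theorem mw_of_e {v w : List ℕ} (h : e v = e w) : mw v = mw w := by
  unfold e at h
  rw [QuotientGroup.eq] at h
  have h0 := normal_Rk.conj_mem _ h (evw γ v)
  obtain ⟨m, hm, h1⟩ := mem_Rk.1 h0
  have h2 : evw γ w = r k m * evw γ v := by rw [← h1]; group
  have h3 : Acts k (evw γ w) (mw v) := by
    rw [h2]
    exact hyp.toBas.acts_rmul (hyp.toBas.acts_evw v) m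
  exact acts_unique' (mw_lt _) (mw_lt _) h3 (hyp.toBas.acts_evw w)

theorem e_eq_iff {v w : List ℕ} : e v = e w ↔ mw v = mw w := ⟨mw_of_e, e_eq⟩

/-- inverse of the letter 1 -/
theorem e_inv1 : (e [1])⁻¹ = e [1, 1, 1] := by
  rw [inv_eq_iff_mul_eq_one, ← e_append, ← e_nil]
  exact e_eq (by decide +kernel)

/-- words for three 3-cycles of the first factor -/
def aw (i : ℕ) : List ℕ :=
  match i with
  | 0 => [0, 2, 0, 2]
  | 1 => [0, 1, 1, 1, 0, 2, 1]
  | _ => [0, 0, 2, 0, 2, 2, 0, 2]

/-- words for three 3-cycles of the second factor -/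
def bw (i : ℕ) : List ℕ := [1, 1, 1] ++ aw i ++ [1]

theorem rel_a : Rel 3 (fun i => e (aw i)) where
  cube i hi := by
    rw [pow_three, ← e_append, ← e_append, ← e_nil]
    apply e_eq
    have h : ∀ i < 3, mw (aw i ++ (aw i ++ aw i)) = mw [] := by decide +kernel
    exact h i hi
  sq i hi j hj hij := by
    rw [pow_two, ← e_append, ← e_append, ← e_nil]
    apply e_eq
    have h : ∀ i < 3, ∀ j < 3, i ≠ j → mw (aw i ++ aw j ++ (aw i ++ aw j)) = mw [] := by decide +kernel
    exact h i hi j hj hij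

/-- the group `A5` -/
abbrev A5 : Type := alternatingGroup (Fin 5)

/-- the first factor -/
noncomputable def φA : A5 →* Lq := (exists_hom (m := 3) (by norm_num) rel_a).choose

theorem φA_cyc {i : ℕ} (hi : i < 3) : φA ⟨cyc 3 i, cyc_mem 3 i hi⟩ = e (aw i) :=
  (exists_hom (m := 3) (by norm_num) rel_a).choose_spec i hi

/-- the second factor: the conjugate under the letter 1 -/
noncomputable def φB : A5 →* Lq := (MulAut.conj (e [1])⁻¹).toMonoidHom.comp φA

theorem φB_apply (x : A5) : φB x = (e [1])⁻¹ * φA x * e [1] := by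
  change (e [1])⁻¹ * φA x * (e [1])⁻¹⁻¹ = _
  rw [inv_inv]

theorem φB_cyc {i : ℕ} (hi : i < 3) : φB ⟨cyc 3 i, cyc_mem 3 i hi⟩ = e (bw i) := by
  rw [φB_apply, φA_cyc hi, e_inv1, ← e_append, ← e_append]
  rfl

theorem top_of_gens {T : Subgroup A5} (h : ∀ (i : ℕ) (hi : i < 3), (⟨cyc 3 i, cyc_mem 3 i hi⟩ : A5) ∈ T) :
    T = ⊤ := by
  rw [eq_top_iff]
  intro s _
  have h1 : (s : Equiv.Perm (Fin 5)) ∈ T.map (alternatingGroup (Fin 5)).subtype := by
    have h2 : (s : Equiv.Perm (Fin 5)) ∈ Lib.AltCarmichael.gen 3 (cyc 3) := by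
      rw [Lib.AltCarmichael.gen_cyc 3 (by norm_num)]
      exact s.2
    have h3 : Lib.AltCarmichael.gen 3 (cyc 3) ≤ T.map (alternatingGroup (Fin 5)).subtype := by
      rw [Lib.AltCarmichael.gen_def, Subgroup.closure_le]
      rintro _ ⟨i, hi, rfl⟩
      exact ⟨_, h i hi, rfl⟩
    exact h3 h2
  obtain ⟨t, ht, e⟩ := h1
  have : t = s := Subtype.ext e
  rwa [← this]

theorem hom_eq_of_gens {G : Type*} [Group G] {f g : A5 →* G}
    (h : ∀ (i : ℕ) (hi : i < 3), f ⟨cyc 3 i, cyc_mem 3 i hi⟩ = g ⟨cyc 3 i, cyc_mem 3 i hi⟩) : f = g := by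
  have h1 : f.eqLocus g = ⊤ := top_of_gens h
  ext x
  have : x ∈ f.eqLocus g := by rw [h1]; exact Subgroup.mem_top x
  exact this

theorem chk_ab : ∀ i < 3, ∀ j < 3, mw (aw i ++ bw j) = mw (bw j ++ aw i) := by decide +kernel

theorem comm_AB (x y : A5) : φA x * φB y = φB y * φA x := by
  have h1 : ∀ (i : ℕ) (hi : i < 3) (y : A5), e (aw i) * φB y = φB y * e (aw i) := by
    intro i hi y
    have h2 : ((Subgroup.centralizer {e (aw i)}).comap φB) = ⊤ := by
      refine top_of_gens fun j hj => ?_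
      rw [Subgroup.mem_comap, φB_cyc hj, Subgroup.mem_centralizer_singleton_iff, ← e_append, ← e_append]
      exact e_eq (chk_ab i hi j hj).symm
    have h3 : y ∈ (Subgroup.centralizer {e (aw i)}).comap φB := by rw [h2]; exact Subgroup.mem_top y
    rw [Subgroup.mem_comap, Subgroup.mem_centralizer_singleton_iff] at h3
    exact h3.symm
  have h2 : ((Subgroup.centralizer {φB y}).comap φA) = ⊤ := by
    refine top_of_gens fun i hi => ?_
    rw [Subgroup.mem_comap, φA_cyc hi, Subgroup.mem_centralizer_singleton_iff]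
    exact h1 i hi y
  have h3 : x ∈ (Subgroup.centralizer {φB y}).comap φA := by rw [h2]; exact Subgroup.mem_top x
  rw [Subgroup.mem_comap, Subgroup.mem_centralizer_singleton_iff] at h3
  exact h3

theorem aw0_ne : e (aw 0) ≠ 1 := by
  intro h
  rw [← e_nil, e_eq_iff] at h
  exact absurd h (by decide +kernel)

theorem φA_inj : Function.Injective φA := by
  have h1 := φA.normal_ker.eq_bot_or_eq_top
  rcases h1 with h1 | h1
  · exact (MonoidHom.ker_eq_bot_iff φA).1 h1
  · exfalso
    apply aw0_ne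
    rw [← φA_cyc (by norm_num)]
    have : (⟨cyc 3 0, cyc_mem 3 0 (by norm_num)⟩ : A5) ∈ φA.ker := by rw [h1]; exact Subgroup.mem_top _
    exact this

theorem φB_inj : Function.Injective φB := (MulAut.conj (e [1])⁻¹).injective.comp φA_inj

/-- `A5 × A5` in `Lq` -/
noncomputable def φ2 : A5 × A5 →* Lq := φA.noncommCoprod φB comm_AB

theorem φ2_apply (x : A5 × A5) : φ2 x = φA x.1 * φB x.2 := rfl

/-- the subgroup `A5 × A5` -/
noncomputable def LL : Subgroup Lq := φ2.range

theorem mem_LL {x : Lq} : x ∈ LL ↔ ∃ a b : A5, φA a * φB b = x := by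
  unfold LL
  rw [MonoidHom.mem_range]
  constructor
  · rintro ⟨⟨a, b⟩, h⟩; exact ⟨a, b, h⟩
  · rintro ⟨a, b, h⟩; exact ⟨⟨a, b⟩, h⟩

theorem A_mem (a : A5) : φA a ∈ LL := mem_LL.2 ⟨a, 1, by rw [map_one, mul_one]⟩

theorem B_mem (b : A5) : φB b ∈ LL := mem_LL.2 ⟨1, b, by rw [map_one, one_mul]⟩

/-- evaluation of words in the six 3-cycles -/
def abw (l : List ℕ) : List ℕ := (l.map fun i => if i < 3 then aw i else bw (i - 3)).flatten

theorem abw_mem (l : List ℕ) (h : ∀ i ∈ l, i < 6) : e (abw l) ∈ LL := by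
  induction l with
  | nil => exact LL.one_mem
  | cons i l ih =>
    have h1 : abw (i :: l) = (if i < 3 then aw i else bw (i - 3)) ++ abw l := rfl
    rw [h1, e_append]
    refine LL.mul_mem ?_ (ih fun j hj => h j (List.mem_cons_of_mem _ hj))
    have hi := h i List.mem_cons_self
    split
    · rename_i h3
      rw [← φA_cyc h3]; exact A_mem _
    · have h3 : i - 3 < 3 := by omega
      rw [← φB_cyc h3]; exact B_mem _

theorem mem_LL_of {w l : List ℕ} (hl : ∀ i ∈ l, i < 6) (h : mw w = mw (abw l)) : e w ∈ LL := by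
  rw [e_eq h]; exact abw_mem l hl

theorem e0_mem : e [0] ∈ LL := mem_LL_of (l := [2, 2, 3]) (by decide) (by decide +kernel)
theorem e2_mem : e [2] ∈ LL := mem_LL_of (l := [2, 0, 0, 4]) (by decide) (by decide +kernel)
theorem e11_mem : e [1, 1] ∈ LL := mem_LL_of (l := [0, 1, 2, 0, 0, 3, 4, 5, 3, 3]) (by decide) (by decide +kernel)


/-- conjugation of the factors by the letter 1 -/
theorem e1_conj_A (x : A5) : (e [1])⁻¹ * φA x * e [1] = φB x := (φB_apply x).symm

theorem e1_conj_LL {x : Lq} (hx : x ∈ LL) : (e [1])⁻¹ * x * e [1] ∈ LL := by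
  obtain ⟨a, b, rfl⟩ := mem_LL.1 hx
  have h1 : (e [1])⁻¹ * (φA a * φB b) * e [1] = φB a * ((e [1, 1])⁻¹ * φA b * e [1, 1]) := by
    rw [φB_apply, φB_apply, show ([1, 1] : List ℕ) = [1] ++ [1] from rfl, e_append]; group
  rw [h1]
  exact LL.mul_mem (B_mem a) (LL.mul_mem (LL.mul_mem (LL.inv_mem e11_mem) (A_mem b)) e11_mem)

theorem e1_conj_LL' {x : Lq} (hx : x ∈ LL) : e [1] * x * (e [1])⁻¹ ∈ LL := by
  have h1 : e [1] * x * (e [1])⁻¹ = e [1, 1] * ((e [1])⁻¹ * x * e [1]) * (e [1, 1])⁻¹ := by
    rw [show ([1, 1] : List ℕ) = [1] ++ [1] from rfl, e_append]; group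
  rw [h1]
  exact LL.mul_mem (LL.mul_mem e11_mem (e1_conj_LL hx)) (LL.inv_mem e11_mem)

/-- every element of `Lq` is the class of a word -/
theorem exists_word (x : Lq) : ∃ w : List ℕ, x = e w := by
  have := finite_HN
  obtain ⟨y, rfl⟩ := QuotientGroup.mk_surjective x
  obtain ⟨m, hm, w, _, w', _, rfl⟩ := XClose.normal_form hyp disj y
  refine ⟨w ++ w', ?_⟩
  unfold e
  rw [evw_append, mul_assoc, QuotientGroup.eq]
  have h := normal_Rk.conj_mem _ (Rk.inv_mem (r_mem_R hyp.toBas hm)) (evw γ w * evw γ w')⁻¹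
  have h2 : (r k m * (evw γ w * evw γ w'))⁻¹ * (evw γ w * evw γ w') =
      (evw γ w * evw γ w')⁻¹ * (r k m)⁻¹ * (evw γ w * evw γ w')⁻¹⁻¹ := by group
  rw [h2]; exact h

theorem gen_ge (g : ℕ) (h : 2 ≤ g) : XMat.gen g = XMat.gen 2 := by
  obtain ⟨n, rfl⟩ := Nat.exists_eq_add_of_le h
  rw [Nat.add_comm]
  rfl

theorem e_ge (g : ℕ) (h : 2 ≤ g) : e [g] = e [2] := by
  apply e_eq
  rw [mw_cons, mw_cons, gen_ge g h]

/-- `Lq = LL ∪ LL·c` -/
theorem LL_or (x : Lq) : x ∈ LL ∨ ∃ y ∈ LL, x = y * e [1] := by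
  obtain ⟨w, rfl⟩ := exists_word x
  induction w with
  | nil => exact Or.inl LL.one_mem
  | cons g w ih =>
    have h1 : e (g :: w) = e [g] * e w := e_append [g] w
    rw [h1]
    rcases Nat.lt_or_ge g 2 with hg | hg
    · interval_cases g
      · rcases ih with h | ⟨y, hy, h⟩
        · exact Or.inl (LL.mul_mem e0_mem h)
        · exact Or.inr ⟨e [0] * y, LL.mul_mem e0_mem hy, by rw [h, mul_assoc]⟩
      · rcases ih with h | ⟨y, hy, h⟩
        · exact Or.inr ⟨_, e1_conj_LL' h, by group⟩
        · refine Or.inl ?_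
          rw [h]
          have : e [1] * (y * e [1]) = e [1] * y * (e [1])⁻¹ * e [1, 1] := by
            rw [show ([1, 1] : List ℕ) = [1] ++ [1] from rfl, e_append]; group
          rw [this]
          exact LL.mul_mem (e1_conj_LL' hy) e11_mem
    · rw [e_ge g hg]
      rcases ih with h | ⟨y, hy, h⟩
      · exact Or.inl (LL.mul_mem e2_mem h)
      · exact Or.inr ⟨e [2] * y, LL.mul_mem e2_mem hy, by rw [h, mul_assoc]⟩

/-- `A5` is not commutative -/
theorem A5_center {a : A5} (h : ∀ b, a * b = b * a) : a = 1 := by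
  have hmem : a ∈ Subgroup.center A5 := Subgroup.mem_center_iff.2 fun b => (h b).symm
  have hn : (Subgroup.center A5).Normal := inferInstance
  rcases hn.eq_bot_or_eq_top with h1 | h1
  · rw [h1] at hmem; exact Subgroup.mem_bot.1 hmem
  · exfalso
    have hx : cyc 3 0 ∈ alternatingGroup (Fin 5) := cyc_mem 3 0 (by norm_num)
    have hy : cyc 3 1 ∈ alternatingGroup (Fin 5) := cyc_mem 3 1 (by norm_num)
    have h2 : (⟨cyc 3 0, hx⟩ : A5) ∈ Subgroup.center A5 := by rw [h1]; exact Subgroup.mem_top _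
    have h3 := congrArg Subtype.val (Subgroup.mem_center_iff.1 h2 ⟨cyc 3 1, hy⟩)
    revert h3
    change cyc 3 1 * cyc 3 0 = cyc 3 0 * cyc 3 1 → False
    decide

theorem A_inter_B {a b : A5} (h : φA a = φB b) : a = 1 ∧ b = 1 := by
  have h1 : a = 1 := A5_center fun x => φA_inj (by
    rw [map_mul, map_mul, h, comm_AB])
  refine ⟨h1, φB_inj ?_⟩
  rw [← h, h1, map_one, map_one]

theorem φ2_inj {a b a' b' : A5} (h : φA a * φB b = φA a' * φB b') : a = a' ∧ b = b' := by
  have h1 : φA (a'⁻¹ * a) = φB (b' * b⁻¹) := by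
    rw [map_mul, map_mul, map_inv, map_inv]
    have : φA a = φA a' * φB b' * (φB b)⁻¹ := by rw [← h]; group
    rw [this]; group
  obtain ⟨h2, h3⟩ := A_inter_B h1
  exact ⟨(inv_mul_eq_one.1 h2).symm, (mul_inv_eq_one.1 h3).symm⟩

theorem e1_notMem : e [1] ∉ LL := by
  intro h
  obtain ⟨a, b, hab⟩ := mem_LL.1 h
  have h1 := e1_conj_A ⟨cyc 3 0, cyc_mem 3 0 (by norm_num)⟩
  rw [← hab] at h1
  have h2 : (φA a * φB b)⁻¹ * φA ⟨cyc 3 0, cyc_mem 3 0 (by norm_num)⟩ * (φA a * φB b) =
      φA (a⁻¹ * ⟨cyc 3 0, cyc_mem 3 0 (by norm_num)⟩ * a) := by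
    rw [map_mul, map_mul, map_inv]
    have hc := comm_AB (a⁻¹ * ⟨cyc 3 0, cyc_mem 3 0 (by norm_num)⟩ * a) b
    rw [map_mul, map_mul, map_inv] at hc
    calc (φA a * φB b)⁻¹ * φA ⟨cyc 3 0, _⟩ * (φA a * φB b)
        = (φB b)⁻¹ * ((φA a)⁻¹ * φA ⟨cyc 3 0, _⟩ * φA a * φB b) := by group
      _ = (φA a)⁻¹ * φA ⟨cyc 3 0, _⟩ * φA a := by rw [hc]; group
  rw [h2] at h1
  have h3 := (A_inter_B h1).2
  apply aw0_ne
  rw [← φA_cyc (by norm_num), h3, map_one]

end Cfsg.Agent.KFacts.HN

end

-- merged: Cfsg.Agent.KFacts.HN.QuotNormal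
section

/-!
# Normal subgroups of `C(W0)/R = (A5 × A5).2`
-/

set_option autoImplicit false

namespace Cfsg.Agent.KFacts.HN

open Cfsg.Agent.HN Cfsg.Agent.HN.XMat Cfsg.Agent.HN.XStruct Cfsg.Agent.HN.XWords Cfsg.Agent.HN.XQuot
open Cfsg.Agent.Lib.AltCarmichael (cyc cyc_mem)

/-- the two factors -/
noncomputable def AA : Subgroup Lq := φA.range
noncomputable def BB : Subgroup Lq := φB.range

theorem AA_le : AA ≤ LL := by rintro _ ⟨a, rfl⟩; exact A_mem a
theorem BB_le : BB ≤ LL := by rintro _ ⟨a, rfl⟩; exact B_mem a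

theorem LL_le {N : Subgroup Lq} (hA : AA ≤ N) (hB : BB ≤ N) : LL ≤ N := by
  intro x hx
  obtain ⟨a, b, rfl⟩ := mem_LL.1 hx
  exact N.mul_mem (hA ⟨a, rfl⟩) (hB ⟨b, rfl⟩)

instance normal_LL : LL.Normal := by
  refine ⟨fun n hn g => ?_⟩
  rcases LL_or g with h | ⟨y, hy, rfl⟩
  · exact LL.mul_mem (LL.mul_mem h hn) (LL.inv_mem h)
  · have : y * e [1] * n * (y * e [1])⁻¹ = y * (e [1] * n * (e [1])⁻¹) * y⁻¹ := by group
    rw [this]
    exact LL.mul_mem (LL.mul_mem hy (e1_conj_LL' hn)) (LL.inv_mem hy)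

theorem index_LL : LL.index = 2 := by
  rw [Subgroup.index_eq_two_iff]
  refine ⟨e [1], fun b => ?_⟩
  rcases LL_or b with h | ⟨y, hy, rfl⟩
  · refine Or.inr ⟨h, fun h2 => e1_notMem ?_⟩
    have := LL.mul_mem (LL.inv_mem h) h2
    rwa [inv_mul_cancel_left] at this
  · refine Or.inl ⟨?_, fun h2 => e1_notMem ?_⟩
    · have : y * e [1] * e [1] = y * e [1, 1] := by
        rw [show ([1, 1] : List ℕ) = [1] ++ [1] from rfl, e_append, mul_assoc]
      rw [this]
      exact LL.mul_mem hy e11_mem
    · have := LL.mul_mem (LL.inv_mem hy) h2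
      rwa [inv_mul_cancel_left] at this

/-- the centraliser of `A5 × A5` is trivial -/
theorem cent_LL {x : Lq} (h : ∀ y ∈ LL, x * y = y * x) : x = 1 := by
  rcases LL_or x with hx | ⟨y, hy, rfl⟩
  · obtain ⟨a, b, rfl⟩ := mem_LL.1 hx
    have h1 : a = 1 := A5_center fun c => φA_inj (by
      rw [map_mul, map_mul]
      have := h _ (A_mem c)
      have h2 : φA a * φB b * φA c = φA a * φA c * φB b := by rw [mul_assoc, ← comm_AB, ← mul_assoc]
      rw [h2, ← mul_assoc] at this
      exact mul_right_cancel this)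
    have h2 : b = 1 := A5_center fun c => φB_inj (by
      rw [map_mul, map_mul]
      have := h _ (B_mem c)
      have h2 : φB c * (φA a * φB b) = φA a * (φB c * φB b) := by rw [← mul_assoc, ← comm_AB, mul_assoc]
      rw [h2, mul_assoc] at this
      exact mul_left_cancel this)
    rw [h1, h2, map_one, map_one, mul_one]
  · exfalso
    obtain ⟨a, b, rfl⟩ := mem_LL.1 hy
    -- conjugation by `x = φA a φB b c` maps `AA` to `BB`
    set a0 : A5 := ⟨cyc 3 0, cyc_mem 3 0 (by norm_num)⟩
    have h1 := h _ (A_mem (a * a0 * a⁻¹))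
    have h3 : (φA a * φB b * e [1])⁻¹ * φA (a * a0 * a⁻¹) * (φA a * φB b * e [1]) = φB a0 := by
      have hc : φA (a * a0 * a⁻¹) * (φA a * φB b) = φA a * φB b * φA a0 := by
        rw [← mul_assoc, ← map_mul, inv_mul_cancel_right, map_mul, mul_assoc, comm_AB, ← mul_assoc]
      calc (φA a * φB b * e [1])⁻¹ * φA (a * a0 * a⁻¹) * (φA a * φB b * e [1])
          = (e [1])⁻¹ * ((φA a * φB b)⁻¹ * (φA (a * a0 * a⁻¹) * (φA a * φB b))) * e [1] := by group
        _ = (e [1])⁻¹ * φA a0 * e [1] := by rw [hc]; group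
        _ = φB a0 := (φB_apply a0).symm
    have h4 : (φA a * φB b * e [1])⁻¹ * φA (a * a0 * a⁻¹) * (φA a * φB b * e [1]) = φA (a * a0 * a⁻¹) := by
      rw [mul_assoc, ← h1]; group
    rw [h4] at h3
    have h5 := (A_inter_B h3).2
    apply aw0_ne
    rw [← φA_cyc (by norm_num)]
    change φA a0 = 1
    rw [h5, map_one]

theorem exists_not_comm {a : A5} (ha : a ≠ 1) : ∃ c, a * c ≠ c * a := by
  by_contra h
  push Not at h
  exact ha (A5_center h)

theorem comap_top {φ : A5 →* Lq} {N : Subgroup Lq} (hn : ∀ a : A5, ∀ n ∈ N, φ a * n * (φ a)⁻¹ ∈ N)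
    {c : A5} (hc : φ c ∈ N) (hc1 : c ≠ 1) : φ.range ≤ N := by
  have hnor : (N.comap φ).Normal := ⟨fun n h g => by
    rw [Subgroup.mem_comap, map_mul, map_mul, map_inv]
    exact hn g _ h⟩
  rcases hnor.eq_bot_or_eq_top with h | h
  · exfalso
    have : c ∈ N.comap φ := hc
    rw [h] at this
    exact hc1 (Subgroup.mem_bot.1 this)
  · rintro _ ⟨a, rfl⟩
    have : a ∈ N.comap φ := by rw [h]; exact Subgroup.mem_top a
    exact this

/-- a nontrivial subgroup normalised by `A5 × A5` contains one of the factors -/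
theorem A_or_B_le {N : Subgroup Lq} (hn : ∀ l ∈ LL, ∀ n ∈ N, l * n * l⁻¹ ∈ N) (hN : N ≠ ⊥) :
    AA ≤ N ∨ BB ≤ N := by
  obtain ⟨x, hxN, hx1⟩ := N.bot_or_exists_ne_one.resolve_left hN
  -- an element in `N ∩ LL`
  obtain ⟨y, hyN, hyL, hy1⟩ : ∃ y ∈ N, y ∈ LL ∧ y ≠ 1 := by
    by_contra hcon
    push Not at hcon
    apply hx1
    apply cent_LL
    intro l hl
    have h1 : x * (l * x⁻¹ * l⁻¹) ∈ N := N.mul_mem hxN (hn l hl _ (N.inv_mem hxN))
    have h2 : x * (l * x⁻¹ * l⁻¹) ∈ LL := by
      have : x * (l * x⁻¹ * l⁻¹) = x * l * x⁻¹ * l⁻¹ := by group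
      rw [this]
      exact LL.mul_mem (normal_LL.conj_mem _ hl x) (LL.inv_mem hl)
    have h3 := hcon _ h1 h2
    calc x * l = x * (l * x⁻¹ * l⁻¹) * l * x := by group
      _ = l * x := by rw [h3, one_mul]
  obtain ⟨a, b, rfl⟩ := mem_LL.1 hyL
  by_cases ha : a = 1
  · right
    have hb : b ≠ 1 := fun hb => hy1 (by rw [ha, hb, map_one, map_one, mul_one])
    rw [ha, map_one, one_mul] at hyN
    exact comap_top (fun a n h => hn _ (B_mem a) n h) hyN hb
  · left
    obtain ⟨c, hc⟩ := exists_not_comm ha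
    have h1 : φA (a * (c * a⁻¹ * c⁻¹)) ∈ N := by
      have h2 := N.mul_mem hyN (hn _ (A_mem c) _ (N.inv_mem hyN))
      have h3 : φA a * φB b * (φA c * (φA a * φB b)⁻¹ * (φA c)⁻¹) = φA (a * (c * a⁻¹ * c⁻¹)) := by
        have e1 : φA a * φB b = φ2 (a, b) := rfl
        have e2 : φA c = φ2 (c, 1) := by rw [φ2_apply, map_one, mul_one]
        have e3 : ∀ d : A5, φA d = φ2 (d, 1) := fun d => by rw [φ2_apply, map_one, mul_one]
        rw [e1, e2, e3, ← map_inv, ← map_inv, ← map_mul, ← map_mul, ← map_mul]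
        congr 1
        ext1
        · rfl
        · change b * (1 * b⁻¹ * 1⁻¹) = 1
          group
      rwa [h3] at h2
    refine comap_top (fun a n h => hn _ (A_mem a) n h) h1 fun h => hc ?_
    have h2 : a * c = a * (c * a⁻¹ * c⁻¹) * c * a := by group
    rw [h2, h, one_mul]

end Cfsg.Agent.KFacts.HN

end

-- merged: Cfsg.Agent.KFacts.HN.Irr
section

/-!
# `A5 × A5` is irreducible on `R/⟨W0⟩`

Masks `m < 256`; a set of masks closed under `xor` and under the six matrices generating `A5 × A5` which contains a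
nonzero mask contains every mask: for every `m` an explicit table expresses the eight unit masks as sums of images of `m`
under seventeen matrices.
-/

set_option autoImplicit false
set_option Elab.async false

namespace Cfsg.Agent.KFacts.HN

open Cfsg.Agent.HN Cfsg.Agent.HN.XMat Cfsg.Agent.HN.XStruct
open Cfsg.Agent.SporadicA.PermTab (band_eq_true allB allB_iff)

/-- matrices of the six 3-cycles -/
def g6 (i : ℕ) : ℕ := bif Nat.blt i 3 then mw (aw i) else mw (bw (i - 3))

/-- matrix of a word in the six 3-cycles -/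
def m6 (w : List ℕ) : ℕ := List.rec MI (fun g _ ih => mul (g6 g) ih) w

def AW : List (List ℕ) := [
  [], [0], [1, 0, 2], [1, 1, 2], [3, 4], [4, 3], [0, 3, 5], [0, 4, 5], [0, 5, 3], [1, 2, 5], [2, 1, 5], [1, 2, 4],
  [1, 5], [1, 2, 3], [1, 3, 4], [2, 3, 4], [0, 4]]

def AM : List ℕ := [
  9241421688590303745, 10259521773487831652, 11611311749839704025, 10110626519017201930, 11033889495868091972,
  3198969418621237089, 12951442854144345178, 18161862821430141481, 5077802333973469828, 17367290167242852641,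
  924129021979140618, 12931728796595583726, 9034513344657302304, 9633800624050414344, 3243346032184782352,
  11754681085043233856, 16222318838472290848]

theorem chkAM : AW.map m6 = AM := by decide +kernel

theorem chkAW : ∀ w ∈ AW, ∀ i ∈ w, i < 6 := by decide +kernel

def irrTab : List ℕ := [
  0, 147544566133544486026741867657527951361, 39212367859717801281760767658267115698,
  108332766189477638259887355744134758460, 58486285344733755151133395884762202130,
  26584808376453922006096302055823114290, 1045443046477381891092113999872157418031,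
  150203108334098106070190159018737533162, 90388112192548484683313334669899333838,
  47853374087118671127963411170314551381, 57823050553905312125228269772805636105,
  110326471280468636476278008078476902408, 5317753707432390678054544799909412976,
  18610348042746417729163800743204487226, 1332376843086826371318157047045685337,
  15286177730667510056432265418359177443, 221981115873124816262000423772318990601,
  23926423375793569247540471857108877333, 150202946069173150044601661635935338574,
  29913085893228857619481900407729815592, 83077023554270778255391793093236097146,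
  1372594126412882456998992193384397045794, 112330302441690060971947846509180616833,
  232616425527957986108899980543521063035, 16337666165798598858932461201533634887686,
  771625304312144752062397423632850355209, 19941289902839195541060812537906725566,
  17280465943275137917017948790611640427, 114314439223298684266459684207840329930,
  75766761427163282916644361441181171915, 871978935013408933451673807438685143066,
  24590996812503304458527768029249405009, 55163042954751190419333762069340618787,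
  244577961367563607884254071475594723379, 101686266205152213548374937225661907054,
  220652420293183962126657786011347583350, 291101103477494307470679012743019626545,
  1156428706207189664850471492305002692748, 529701372239634416410778593698009448754,
  250559893004795757374679140107229331509, 43682087997943574200969958432391618232347,
  27250218458033599614889203319878975680, 3987983165237123035898394410396550153,
  43576413697887567630820549970426010009639, 21270974268585366529365982562252751015,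
  533686389110049461917402425244749398068, 38548428248811133170563430377248391268,
  96369775077679012374800714006273327237, 248567293299692829166061658224611950630,
  790231504579263698868923186394118226953, 364208775141444534317472579583587779593,
  209357318792200706858897696560617226255, 875966563215355640072696638938922222611,
  32567363694067576063427533569097335033, 7976630561786816651235695785692889233,
  6647275795912777831567406996256981067, 9305868699550267239528619692146950276,
  292430919668264195601724899066735624501, 2658937707154061552666582176491241697,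
  57822568847760358295138254641735532555, 92403134252032665773155473024038077003,
  25348996800870156475360887075620667446, 1451517194589632526131938695666271256728,
  30572669848200639935697296227263840323, 158842750567518820401229653398480879635,
  20603211406485349918738410957615005730, 121624899098986741563370489547517722849,
  85070703287742918882597746827020206127, 36553861156901430675651554189996326928,
  470547410256291687996291628235813683396, 70449722672889962433986443348242858073,
  200713782306193291268149982918799524187, 172139188430207542171103281379228647434,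
  37218505584714048803749679702504505505, 35889287736284902398217028124844490798,
  78425232628722123369049372850514690147, 221317799941129604824180343294358061121,
  48518667547860591828518637471559450729, 73107565130776415830657002419882557585,
  89724978806069597275717157643299324161, 107002899301678068523509298656340607082,
  357564927016080395833791354953907438144, 33231156256227985836350204078579777542,
  107668015292651288043146774621683187964, 74437786960453878940427500039843610835,
  188752216032837678938150678098554126364, 19274044261217450328500706235948335344,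
  63803339316462366225137673484128616530, 176123464967642226661941037462757441813,
  114979621131754902811966202217272574102, 13957588628541396016603273536520061056,
  11963239585069010152465295881702604859, 432019928823333180360970377792207196682,
  344942544683711085242835144191885837328, 95040739763586053463474072650752327878,
  9969930003715321146511880337699504157, 685882695447683122104861915130193641544,
  117636692840087570849164314798135705632, 51176439010427455317754867864183898333,
  424691316027332096605002789545505456242, 71113794117292658031594662232498634755,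
  120295295879707381051478248694415753218, 280469160710624618517215023421570810134,
  33895577573124757838598917509522784405, 3323303243052962506326006468469981270,
  45858492628846867660037809169650810893, 21805320815629291049711171076732299026441,
  103016001252898469252056323140229660825, 16623214491945853339256782603174412310,
  423359314413774714477389607919421095979, 360221015045458795459885924733584933176,
  25920158892894177238061358123290329304, 116308428258410719775173117776503373971,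
  52505732921954543599456752070215205065, 67127600898340024170614734401343324201,
  39877199886859569286413248916679557184, 29244957952204462216055420070561841264,
  213341478699938711922733382927057551727, 148874433028520229983865970502355648693,
  224641376987388968311107638234290323724, 707157112687407482238168842404462068782,
  1149125781299784702395136820104511357633, 41872121949526251357556302139503411968,
  43201385410668336484903086518678978565, 37884179339823575774767009821022224532,
  188087333300445635283642688781910802599, 58487294394688903942150927025670062122,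
  34562823264419146407478787210649796670, 665825873452409820889690919658586156,
  77760562853197378343020891535162736756, 28578670671380969445827461732516495416,
  79089136741504673384018113415389380924, 8647841446866207304526706275633332797,
  127606521422199511662215998126944813195, 100357743020625129735556744942369112222,
  447287984085890799458881156014245806602, 166819406483207408068650815957693628485,
  342279834423031551278193139429870797955, 54498484757586224798426071320718082678,
  47189221524722003187924723213211926789, 5983290563549985124125596828223144004,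
  1041455423376753972017346581714162549251, 1993948482478817586042598262670229648,
  5476419536585103672825880870405482905610, 3113719247283030163705633951588162867213,
  91053354946492614665869340640970408127, 155520958370944805827344748764341600484,
  183435298986948721985387443067054325805, 57821879245601733662475941844310687887,
  1060726830901202227963605875694237124151, 149539138295398938511362461580189630495,
  178781616718116322870688539811456483604, 13292432096772749278714299306836624173,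
  10634031868289416244504077460426850416, 370198023590899275942071822818602386441,
  17945287836833152097944250617911705671, 685884444799747440493293198588677588518,
  467223757163104720863614036812230295732, 23267001676887399557637202366381425855,
  511089533442374172904371217924629201179, 283126465685933244492326353997590822919,
  94375862091738177122548754438861619352, 173464314328147519568802781696382074903,
  160837500207614230987750845602342633617, 148209783535559881290051108281521012826,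
  57822604341242117422257779028387823839, 58486412111534604591126495917487161401,
  156849826353649766560808545100338561133, 10927001999275922949823555351322054107172,
  132259478593418573951921641665042841754, 53834940635832791688011494885307187214,
  201382082633540014595869355866730791714, 386810574604486968938706121521639981702,
  105674665147522875308397384336862347400, 7314186775725700399409158854996394143,
  769623060307309465919848728204741968054, 5486430202847544830379893977252767752226,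
  31237309188621306582748989546358374717, 22596896232649238821395318908039987503,
  170807465691348613868390953216490471706, 4652825330721043595341614585444958479,
  1158425463819298368467722891263852676751, 367539582830247352486202160949954479668,
  27914477521611157176978018319009316884, 166153925411182541262652183186260623565,
  74437254549097406218336570384911433979, 96369394780061756242048001068117655615,
  219988881249924748094946203633639227516, 157514759802936467327133110695253377085,
  44530339592144016439579598003567591601, 232616608067516695954473306656956481917,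
  120960062009714756074896323311248736280, 179447153566806260846867686690525544753,
  74438522196486769676775880861898113323, 12629212497480207496532590124088033547,
  114314008221320878796272785272012800030, 128271150631512338506218198554398031876,
  190744795453983547160202724226790982008, 42536320133262809631184383987886456949,
  176787693607953655045318365530058129732, 41289170607961439717062723906400946238,
  182770548085770219338073172237930463545, 229292219710134028035863688276418887992,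
  1365792870293598290796469013814335113279, 2854540496603671794762669338835194872327,
  14623450007893681973453886509363363942, 112320653007060085002831501238028861536,
  238596719340807545791405380120786763788, 696518071030754056810820983430557992467,
  67791870090240019849119775326414569644, 98363388895834478209716314654471094377,
  186756568914183459975926891166603805014, 234610627533322612148345980681370861885,
  51863911462902904044463950860097818830, 200714030776156137723823138802768019792,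
  168812264775957023757768521638764085473, 208690174542317195254479007292836676375,
  180777172583877385428582975352008605966, 215336502134304180430091158920701542781,
  388137307847062254250667978389298610230, 58486442543118277110661571393570603241,
  1476773033565298531818971521330632460478, 1385055673101402340381255989850530777258,
  81083359037673776642870415271240794433, 114313891597002031500599336916918863922,
  35224617950237707768993487236614717552, 93047151301576150643890753442452996209,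
  23161143628840912193334316270074528794673, 46523010287111868341156491796867842337,
  27239204992965349884317996236507201544195, 69120829339107258967610321783058202811,
  162831534877296764372675033378179383504, 65798474316034418872943712599921262858,
  130931918838976695558590024778726773381, 158178349537170973326553652246345285869,
  130264409510130272704844604188946071588, 95705612368468079877425028799807094854,
  353580143451868977164355958358873473561, 149538803642410504168937033785701826637,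
  200050344703222722765406549587846627590, 809505721235469712919324652427928274498,
  150203387211272535604258199542989848717, 87065650673633409460326508915886522540,
  124948562354616716257733991896006000798, 203373688502700068001885278556182413598,
  15961348801794011965068821859114043400, 21810149548790381604678934744514370897939,
  45195039795577216556557013511951614119, 150868209109975798873984619521722679333,
  75101833047627894268480132217119703165, 159507957833435899676874920239280160980,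
  143557044404963630868313511356035498009, 206030542174394554297272767411771801655,
  40543264087406491929771755695805432136, 97698404745552825641395613922089500823,
  135581935032408002896610550247271039081]

/-- sum of the images of `m` under the matrices of `L` selected by the bits of `s` -/
def combA (m : ℕ) (L : List ℕ) : ℕ → ℕ := List.rec (fun _ => 0)
  (fun A _ ih s => Nat.xor (bif Nat.beq (Nat.land s 1) 1 then app A m else 0) (ih (Nat.shiftRight s 1))) L

theorem chkIrr : allB (fun m => Nat.beq m 0 || (allB (fun i =>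
    Nat.beq (combA m AM (Nat.land (Nat.shiftRight (irrTab.getD m 0) (Nat.mul 17 i)) 131071)) (Nat.shiftLeft 1 i)) 8)) 256 =
    true := by decide +kernel

theorem chkMI : allB (fun m => Nat.beq (app MI m) m) 256 = true := by decide +kernel

theorem app_MI {m : ℕ} (hm : m < 256) : app MI m = m := Nat.eq_of_beq_eq_true ((allB_iff _ _).1 chkMI m hm)

/-- closed sets of masks -/
structure Clo (I : ℕ → Prop) : Prop where
  xor : ∀ a b, I a → I b → I (a ^^^ b)
  app : ∀ i < 6, ∀ m < 256, I m → I (app (g6 i) m)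

namespace Clo

variable {I : ℕ → Prop} (h : Clo I)

include h

theorem zero {m : ℕ} (hI : I m) : I 0 := by
  have := h.xor m m hI hI
  rwa [Nat.xor_self] at this

theorem word : ∀ (w : List ℕ), (∀ i ∈ w, i < 6) → ∀ m < 256, I m → I (XMat.app (m6 w) m) := by
  intro w
  induction w with
  | nil => intro _ m hm hI; change I (XMat.app MI m); rwa [app_MI hm]
  | cons g w ih =>
    intro hw m hm hI
    change I (XMat.app (mul (g6 g) (m6 w)) m)
    rw [app_mul]
    exact ih (fun i hi => hw i (List.mem_cons_of_mem _ hi)) _ (app_lt _ _) (h.app g (hw g List.mem_cons_self) m hm hI)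

theorem comb {m : ℕ} (hm : m < 256) (hI : I m) (L : List ℕ) (hL : ∀ A ∈ L, ∃ w ∈ AW, A = m6 w) (s : ℕ) :
    I (combA m L s) := by
  induction L generalizing s with
  | nil => exact h.zero hI
  | cons A L ih =>
    change I (Nat.xor (bif Nat.beq (Nat.land s 1) 1 then XMat.app A m else 0) (combA m L (Nat.shiftRight s 1)))
    refine h.xor _ _ ?_ (ih (fun B hB => hL B (List.mem_cons_of_mem _ hB)) _)
    cases Nat.beq (Nat.land s 1) 1
    · exact h.zero hI
    · obtain ⟨w, hw, rfl⟩ := hL A List.mem_cons_self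
      exact h.word w (chkAW w hw) m hm hI

theorem unit {m : ℕ} (hm : m < 256) (h0 : m ≠ 0) (hI : I m) {i : ℕ} (hi : i < 8) : I (2 ^ i) := by
  have h1 := (allB_iff _ _).1 chkIrr m hm
  rw [Bool.or_eq_true] at h1
  rcases h1 with h1 | h1
  · exact absurd (Nat.eq_of_beq_eq_true h1) h0
  · have h2 := Nat.eq_of_beq_eq_true ((allB_iff _ _).1 h1 i hi)
    have h3 : Nat.shiftLeft 1 i = 2 ^ i := by
      change 1 <<< i = 2 ^ i
      rw [Nat.shiftLeft_eq, one_mul]
    rw [← h3, ← h2]
    refine h.comb hm hI AM (fun A hA => ?_) _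
    rw [← chkAM, List.mem_map] at hA
    obtain ⟨w, hw, rfl⟩ := hA
    exact ⟨w, hw, rfl⟩

theorem all {m : ℕ} (hm : m < 256) (h0 : m ≠ 0) (hI : I m) : ∀ n < 256, I n := by
  have hu := fun i (hi : i < 8) => h.unit hm h0 hI hi
  have key : ∀ j ≤ 8, ∀ n < 2 ^ j, I n := by
    intro j
    induction j with
    | zero =>
      intro _ n hn
      have : n = 0 := by omega
      rw [this]; exact h.zero hI
    | succ j ih =>
      intro hj n hn
      by_cases hlt : n < 2 ^ j
      · exact ih (by omega) n hlt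
      · have h1 : n ^^^ 2 ^ j < 2 ^ j := by
          have h2 : n.testBit j = true := by
            rw [Nat.testBit_eq_decide_div_mod_eq]
            have : n / 2 ^ j = 1 := by
              apply Nat.div_eq_of_lt_le <;> [omega; (rw [pow_succ] at hn; omega)]
            simp [this]
          apply Nat.lt_pow_two_of_testBit
          intro i hi
          rw [Nat.testBit_xor, Nat.testBit_two_pow]
          rcases Nat.eq_or_lt_of_le hi with rfl | hlt'
          · simp [h2]
          · have h3 : n.testBit i = false :=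
              Nat.testBit_lt_two_pow (lt_of_lt_of_le hn (Nat.pow_le_pow_right (by norm_num) hlt'))
            have h4 : decide (j = i) = false := by
              rw [decide_eq_false_iff_not]; omega
            rw [h3, h4]; rfl
        have h2 := h.xor _ _ (ih (by omega) _ h1) (hu j (by omega))
        rwa [Nat.xor_assoc, Nat.xor_self, Nat.xor_zero] at h2
  exact key 8 le_rfl

end Clo

end Cfsg.Agent.KFacts.HN

end

-- merged: Cfsg.Agent.KFacts.HN.Groups
section

/-!
# The subgroups `R ≤ M ≤ P = C(W0)` of the presented Harada-Norton group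

`P = 2^(1+8).(A5 × A5).2`, `R = O_2(P)` extraspecial, `M` the perfect normal subgroup of index two.
-/

set_option autoImplicit false

namespace Cfsg.Agent.KFacts.HN

open Cfsg.Agent.HN Cfsg.Agent.HN.Pres Cfsg.Agent.HN.P1408 Cfsg.Agent.HN.H0Basic Cfsg.Agent.HN.XMat
open Cfsg.Agent.HN.XStruct Cfsg.Agent.HN.XWords Cfsg.Agent.HN.XQuot Cfsg.Agent.HN.XInst
open Cfsg.Agent.SporadicA.PermTab (band_eq_true allB allB_iff)

/-- the centraliser of `W0` -/
def PP : Subgroup Cfsg.Spor.HN := Subgroup.centralizer ({W0} : Set Cfsg.Spor.HN)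

theorem mem_PP {u : Cfsg.Spor.HN} : u ∈ PP ↔ u * W0 = W0 * u := Subgroup.mem_centralizer_singleton_iff

/-- the projection to `(A5 × A5).2` -/
noncomputable def ρ : PP →* Lq := (QuotientGroup.mk' Rk).comp (QuotientGroup.mk' (Zw W0))

theorem ρ_apply (u : PP) : ρ u = QuotientGroup.mk (s := Rk) (π W0 (u : Cfsg.Spor.HN)) := by
  rw [π_of (mem_PP.1 u.2)]
  rfl

theorem ρ_surj : Function.Surjective ρ :=
  (QuotientGroup.mk'_surjective Rk).comp (QuotientGroup.mk'_surjective (Zw W0))

theorem r_mem_PP (m : ℕ) : r Q m ∈ PP := mem_PP.2 (comm_r m)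
theorem e_mem_PP (w : List ℕ) : evw Γ w ∈ PP := mem_PP.2 (comm_e w)
theorem sgn_mem_PP (b : Bool) : sgn0 b ∈ PP := mem_PP.2 (comm_sgn b)
theorem W0_mem_PP : W0 ∈ PP := mem_PP.2 rfl

theorem π_r (m : ℕ) : π W0 (r Q m) = r k m := P_r (θ := MonoidHom.id _) m
theorem π_e (w : List ℕ) : π W0 (evw Γ w) = evw γ w := P_evw (θ := MonoidHom.id _) w

theorem ρ_e (w : List ℕ) : ρ ⟨evw Γ w, e_mem_PP w⟩ = e w := by
  rw [ρ_apply]
  change QuotientGroup.mk (s := Rk) (π W0 (evw Γ w)) = _
  rw [π_e]; rfl

theorem eq_of_π {u v : Cfsg.Spor.HN} (hu : u ∈ PP) (hv : v ∈ PP) (h : π W0 u = π W0 v) : ∃ b : Bool, v = u * sgn0 b := by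
  rcases (π_eq_iff W0_sq (mem_PP.1 hu) (mem_PP.1 hv)).1 h with h | h
  · exact ⟨false, by rw [h]; exact (mul_one _).symm⟩
  · exact ⟨true, h⟩

/-- `R` -/
noncomputable def RS : Subgroup Cfsg.Spor.HN := ρ.ker.map PP.subtype

/-- `M` -/
noncomputable def MM : Subgroup Cfsg.Spor.HN := (LL.comap ρ).map PP.subtype

theorem mem_RS {x : Cfsg.Spor.HN} : x ∈ RS ↔ ∃ m < 256, ∃ b : Bool, x = r Q m * sgn0 b := by
  constructor
  · rintro ⟨u, hu, rfl⟩
    have h1 : ρ u = 1 := hu
    rw [ρ_apply, QuotientGroup.eq_one_iff] at h1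
    obtain ⟨m, hm, h2⟩ := mem_Rk.1 h1
    rw [← π_r] at h2
    obtain ⟨b, hb⟩ := eq_of_π (r_mem_PP m) u.2 h2.symm
    exact ⟨m, hm, b, hb⟩
  · rintro ⟨m, hm, b, rfl⟩
    refine ⟨⟨r Q m * sgn0 b, PP.mul_mem (r_mem_PP m) (sgn_mem_PP b)⟩, ?_, rfl⟩
    change ρ _ = 1
    rw [ρ_apply, QuotientGroup.eq_one_iff, mem_Rk]
    refine ⟨m, hm, ?_⟩
    change π W0 (r Q m * sgn0 b) = _
    rw [← π_r]
    cases b
    · rw [show sgn0 false = 1 from rfl, mul_one]
    · exact π_mul_w W0_sq (comm_r m)

theorem mem_MM {x : Cfsg.Spor.HN} : x ∈ MM ↔ ∃ h : x ∈ PP, ρ ⟨x, h⟩ ∈ LL := by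
  constructor
  · rintro ⟨u, hu, rfl⟩
    exact ⟨u.2, hu⟩
  · rintro ⟨h, hx⟩
    exact ⟨⟨x, h⟩, hx, rfl⟩

theorem RS_le_MM : RS ≤ MM := by
  rintro _ ⟨u, hu, rfl⟩
  refine mem_MM.2 ⟨u.2, ?_⟩
  have : ρ u = 1 := hu
  rw [show (⟨PP.subtype u, u.2⟩ : PP) = u from rfl, this]
  exact LL.one_mem

theorem MM_le_PP : MM ≤ PP := fun _ h => (mem_MM.1 h).1

theorem RS_le_PP : RS ≤ PP := RS_le_MM.trans MM_le_PP

theorem W0_mem_RS : W0 ∈ RS := mem_RS.2 ⟨0, by norm_num, true, (one_mul _).symm⟩

theorem r_mem_RS {m : ℕ} (hm : m < 256) : r Q m ∈ RS := mem_RS.2 ⟨m, hm, false, (mul_one _).symm⟩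

theorem conj_RS {u x : Cfsg.Spor.HN} (hu : u ∈ PP) (hx : x ∈ RS) : u * x * u⁻¹ ∈ RS := by
  obtain ⟨y, hy, rfl⟩ := hx
  exact ⟨⟨u, hu⟩ * y * ⟨u, hu⟩⁻¹, ρ.normal_ker.conj_mem _ hy _, rfl⟩

theorem conj_MM {u x : Cfsg.Spor.HN} (hu : u ∈ PP) (hx : x ∈ MM) : u * x * u⁻¹ ∈ MM := by
  obtain ⟨y, hy, rfl⟩ := hx
  exact ⟨⟨u, hu⟩ * y * ⟨u, hu⟩⁻¹, (normal_LL.comap ρ).conj_mem _ hy _, rfl⟩

/-- the centraliser of `R` -/
theorem cent_RS {x : Cfsg.Spor.HN} (h : ∀ y ∈ RS, x * y = y * x) : x = 1 ∨ x = W0 := by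
  have hx : x ∈ PP := mem_PP.2 (h _ W0_mem_RS)
  have h1 : π W0 x ∈ Rk := by
    apply hyp.mem_R_of_comm
    intro i hi
    have h2 : Q i ∈ RS := by
      have := r_mem_RS (m := 2 ^ i) (Nat.pow_lt_pow_right (by norm_num) hi)
      rwa [Bas.r_pow hi] at this
    have h3 := h _ h2
    have h4 : k i = π W0 (Q i) := rfl
    rw [h4, ← π_mul (mem_PP.1 hx) (comm_Q hi), ← π_mul (comm_Q hi) (mem_PP.1 hx), h3]
  obtain ⟨m, hm, h2⟩ := mem_Rk.1 h1
  rw [← π_r] at h2
  obtain ⟨b, rfl⟩ := eq_of_π (r_mem_PP m) hx h2.symm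
  have h5 : m = 0 := by
    apply mask_zero (MonoidHom.id _) hm W0_ne
    intro j hj
    have h2 : Q j ∈ RS := by
      have := r_mem_RS (m := 2 ^ j) (Nat.pow_lt_pow_right (by norm_num) hj)
      rwa [Bas.r_pow hj] at this
    have h3 := h _ h2
    have h4 := csg b (Q j) (comm_Q hj)
    rw [mul_assoc, ← h4, ← mul_assoc, ← mul_assoc] at h3
    exact mul_right_cancel h3
  subst h5
  rw [show r Q 0 = 1 from Bas.r_zero, one_mul]
  cases b
  · exact Or.inl rfl
  · exact Or.inr rfl


/-! ### irreducibility -/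

theorem r_mul {a b : ℕ} : ∃ c : Bool, r Q a * r Q b = r Q (a ^^^ b) * sgn0 c := by
  apply eq_of_π (r_mem_PP _) (PP.mul_mem (r_mem_PP _) (r_mem_PP _))
  rw [π_mul (comm_r a) (comm_r b), π_r, π_r, π_r, hyp.toBas.r_xor]

theorem r_conj {u : Cfsg.Spor.HN} (hu : u ∈ PP) {P : ℕ} (hP : Acts k (π W0 u) P) (m : ℕ) :
    ∃ c : Bool, u⁻¹ * r Q m * u = r Q (app P m) * sgn0 c := by
  apply eq_of_π (r_mem_PP _) (PP.mul_mem (PP.mul_mem (PP.inv_mem hu) (r_mem_PP _)) hu)
  have h1 := mem_PP.1 hu
  rw [π_mul (comm_mul (comm_inv h1) (comm_r m)) h1, π_mul (comm_inv h1) (comm_r m), π_inv h1, π_r, π_r]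
  exact (hyp.toBas.acts_r hP m).symm

theorem acts_e (w : List ℕ) : Acts k (π W0 (evw Γ w)) (mw w) := by
  rw [π_e]; exact hyp.toBas.acts_evw w

theorem e_mem_MM {w : List ℕ} (h : e w ∈ LL) : evw Γ w ∈ MM := mem_MM.2 ⟨e_mem_PP w, by rw [ρ_e]; exact h⟩

theorem aw_mem {i : ℕ} (hi : i < 3) : evw Γ (aw i) ∈ MM := e_mem_MM (by rw [← φA_cyc hi]; exact A_mem _)

theorem bw_mem {i : ℕ} (hi : i < 3) : evw Γ (bw i) ∈ MM := e_mem_MM (by rw [← φB_cyc hi]; exact B_mem _)

theorem exists_g6 {i : ℕ} (hi : i < 6) : ∃ w : List ℕ, evw Γ w ∈ MM ∧ mw w = g6 i := by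
  by_cases h : i < 3
  · refine ⟨aw i, aw_mem h, ?_⟩
    unfold g6
    have : Nat.blt i 3 = true := by rw [Nat.blt_eq]; exact h
    rw [this]; rfl
  · refine ⟨bw (i - 3), bw_mem (by omega), ?_⟩
    unfold g6
    have : Nat.blt i 3 = false := by
      rw [← Bool.not_eq_true, Nat.blt_eq]; exact h
    rw [this]; rfl

theorem sgn_mem_RS (b : Bool) : sgn0 b ∈ RS := by
  cases b
  · exact RS.one_mem
  · exact W0_mem_RS

/-- a subgroup of `R` normalised by `M` which contains an element outside `⟨W0⟩` is `R` -/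
theorem irr {N : Subgroup Cfsg.Spor.HN} (hle : N ≤ RS) (hn : ∀ u ∈ MM, ∀ x ∈ N, u * x * u⁻¹ ∈ N) :
    (∀ x ∈ N, x = 1 ∨ x = W0) ∨ N = RS := by
  by_cases hcase : ∀ x ∈ N, x = 1 ∨ x = W0
  · exact Or.inl hcase
  right
  push Not at hcase
  obtain ⟨x, hx, hx1, hxW⟩ := hcase
  obtain ⟨m, hm, b, rfl⟩ := mem_RS.1 (hle hx)
  have hm0 : m ≠ 0 := by
    rintro rfl
    rw [show r Q 0 = 1 from Bas.r_zero, one_mul] at hx1 hxW
    cases b
    · exact hx1 rfl
    · exact hxW rfl
  have hclo : Clo (fun n => ∃ c : Bool, r Q n * sgn0 c ∈ N) := by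
    refine ⟨?_, ?_⟩
    · rintro a a' ⟨c, hc⟩ ⟨c', hc'⟩
      obtain ⟨d, hd⟩ := r_mul (a := a) (b := a')
      refine ⟨d ^^ (c ^^ c'), ?_⟩
      have h1 := N.mul_mem hc hc'
      have h2 : r Q a * sgn0 c * (r Q a' * sgn0 c') = r Q (a ^^^ a') * sgn0 (d ^^ (c ^^ c')) := by
        have h3 := csg c (r Q a') (comm_r a')
        calc r Q a * sgn0 c * (r Q a' * sgn0 c') = r Q a * (sgn0 c * r Q a') * sgn0 c' := by group
          _ = r Q a * r Q a' * (sgn0 c * sgn0 c') := by rw [← h3]; group
          _ = r Q (a ^^^ a') * (sgn0 d * sgn0 (c ^^ c')) := by rw [hd, sgn0_mul, mul_assoc]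
          _ = r Q (a ^^^ a') * sgn0 (d ^^ (c ^^ c')) := by rw [sgn0_mul]
      rwa [h2] at h1
    · rintro i hi n hn' ⟨c, hc⟩
      obtain ⟨w, hw, hw'⟩ := exists_g6 hi
      obtain ⟨d, hd⟩ := r_conj (e_mem_PP w) (acts_e w) n
      refine ⟨d ^^ c, ?_⟩
      have h1 := hn _ (MM.inv_mem hw) _ hc
      rw [inv_inv] at h1
      have h2 : (evw Γ w)⁻¹ * (r Q n * sgn0 c) * evw Γ w = r Q (app (g6 i) n) * sgn0 (d ^^ c) := by
        have h3 := csg c (evw Γ w) (comm_e w)
        calc (evw Γ w)⁻¹ * (r Q n * sgn0 c) * evw Γ w = (evw Γ w)⁻¹ * r Q n * (sgn0 c * evw Γ w) := by group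
          _ = (evw Γ w)⁻¹ * r Q n * evw Γ w * sgn0 c := by rw [← h3]; group
          _ = r Q (app (g6 i) n) * sgn0 (d ^^ c) := by rw [hd, hw', mul_assoc, sgn0_mul]
      rwa [h2] at h1
  have hall := hclo.all hm hm0 ⟨b, hx⟩
  have hW : W0 ∈ N := by
    obtain ⟨c, hc⟩ := hall 2 (by norm_num)
    obtain ⟨d, hd⟩ := hall 64 (by norm_num)
    rw [show r Q 2 = Q 1 from Bas.r_pow (i := 1) (by norm_num)] at hc
    rw [show r Q 64 = Q 6 from Bas.r_pow (i := 6) (by norm_num)] at hd
    have h1 := N.mul_mem (N.mul_mem hc hd) (N.mul_mem hc hd)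
    have h2 : Q 1 * sgn0 c * (Q 6 * sgn0 d) * (Q 1 * sgn0 c * (Q 6 * sgn0 d)) = W0 := by
      have hw1 := W0_word
      rw [V_append, V_append, V_append] at hw1
      change Q 1 * (Q 6 * (Q 1 * Q 6)) = W0 at hw1
      have h3 := csg c (Q 6) (comm_Q (by norm_num))
      have h4 : Q 1 * sgn0 c * (Q 6 * sgn0 d) = Q 1 * Q 6 * (sgn0 c * sgn0 d) := by
        rw [mul_assoc, ← mul_assoc (sgn0 c), ← h3]; group
      have h5 := csg (c ^^ d) (Q 1 * Q 6) (mem_PP.1 (PP.mul_mem (mem_PP.2 (comm_Q (by norm_num)))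
        (mem_PP.2 (comm_Q (by norm_num)))))
      calc Q 1 * sgn0 c * (Q 6 * sgn0 d) * (Q 1 * sgn0 c * (Q 6 * sgn0 d))
          = Q 1 * Q 6 * (sgn0 (c ^^ d) * (Q 1 * Q 6)) * sgn0 (c ^^ d) := by rw [h4, sgn0_mul]; group
        _ = Q 1 * Q 6 * (Q 1 * Q 6) * (sgn0 (c ^^ d) * sgn0 (c ^^ d)) := by rw [← h5]; group
        _ = Q 1 * Q 6 * (Q 1 * Q 6) := by rw [sgn0_mul, Bool.xor_self]; exact mul_one _
        _ = W0 := by rw [← hw1]; group
    rwa [h2] at h1
  apply le_antisymm hle
  intro y hy
  obtain ⟨n, hn', c, rfl⟩ := mem_RS.1 hy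
  obtain ⟨d, hd⟩ := hall n hn'
  have h1 : sgn0 (d ^^ c) ∈ N := by
    cases d ^^ c
    · exact N.one_mem
    · exact hW
  have h2 := N.mul_mem hd h1
  rw [mul_assoc, sgn0_mul, ← Bool.xor_assoc, Bool.xor_self, Bool.false_xor] at h2
  exact h2

end Cfsg.Agent.KFacts.HN

end

-- merged: Cfsg.Agent.KFacts.HN.Perfect
section

/-!
# `M` is perfect of index two in `P = C(W0)`; normal subgroups of `P` and `M`
-/

set_option autoImplicit false

namespace Cfsg.Agent.KFacts.HN

open Cfsg.Agent.HN Cfsg.Agent.HN.Pres Cfsg.Agent.HN.P1408 Cfsg.Agent.HN.H0Basic Cfsg.Agent.HN.XMat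
open Cfsg.Agent.HN.XStruct Cfsg.Agent.HN.XWords Cfsg.Agent.HN.XQuot Cfsg.Agent.HN.XInst

theorem A5_perfect : ⁅(⊤ : Subgroup A5), (⊤ : Subgroup A5)⁆ = ⊤ := by
  have hn : ⁅(⊤ : Subgroup A5), (⊤ : Subgroup A5)⁆.Normal := inferInstance
  rcases hn.eq_bot_or_eq_top with h | h
  · exfalso
    rw [Subgroup.commutator_eq_bot_iff_le_centralizer] at h
    have h1 : ∀ a : A5, a = 1 := fun a => A5_center fun b => by
      have := h (Subgroup.mem_top a)
      rw [Subgroup.mem_centralizer_iff] at this
      exact (this b (Subgroup.mem_top b)).symm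
    apply aw0_ne
    rw [← φA_cyc (by norm_num), h1 ⟨_, _⟩, map_one]
  · exact h

theorem AA_perfect : ⁅AA, AA⁆ = AA := by
  have h1 : AA = (⊤ : Subgroup A5).map φA := (MonoidHom.range_eq_map φA)
  rw [h1, ← Subgroup.map_commutator, A5_perfect]

theorem BB_perfect : ⁅BB, BB⁆ = BB := by
  have h1 : BB = (⊤ : Subgroup A5).map φB := (MonoidHom.range_eq_map φB)
  rw [h1, ← Subgroup.map_commutator, A5_perfect]

theorem LL_perfect : ⁅LL, LL⁆ = LL := by
  apply le_antisymm (Subgroup.commutator_le_left _ _)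
  apply LL_le
  · rw [← AA_perfect]; exact Subgroup.commutator_mono AA_le AA_le
  · rw [← BB_perfect]; exact Subgroup.commutator_mono BB_le BB_le

theorem comm_MM_le : ⁅MM, MM⁆ ≤ MM := Subgroup.commutator_le.2 fun _ ha _ hb =>
  MM.mul_mem (MM.mul_mem (MM.mul_mem ha hb) (MM.inv_mem ha)) (MM.inv_mem hb)

/-- `R ≤ ⁅M, M⁆` -/
theorem RS_le_comm : RS ≤ ⁅MM, MM⁆ := by
  set D := ⁅MM, MM⁆
  have hD : ∀ u ∈ MM, ∀ x ∈ D, u * x * u⁻¹ ∈ D := by
    intro u hu x hx
    have h1 : u * x * u⁻¹ * x⁻¹ ∈ D := Subgroup.commutator_mem_commutator hu (comm_MM_le hx)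
    have := D.mul_mem h1 hx
    rwa [inv_mul_cancel_right] at this
  rcases irr (N := D ⊓ RS) inf_le_right (fun u hu x hx => ⟨hD u hu x hx.1, conj_RS (MM_le_PP hu) hx.2⟩) with h | h
  · exfalso
    -- the commutator of a 3-cycle with an element of `R`
    obtain ⟨c, hc⟩ := r_conj (e_mem_PP (aw 0)) (acts_e (aw 0)) 1
    have hr : r Q 1 ∈ RS := r_mem_RS (by norm_num)
    have h1 : (evw Γ (aw 0))⁻¹ * r Q 1 * evw Γ (aw 0) * (r Q 1)⁻¹ ∈ D := by
      have := Subgroup.commutator_mem_commutator (MM.inv_mem (aw_mem (i := 0) (by norm_num))) (RS_le_MM hr)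
      rwa [commutatorElement_def, inv_inv] at this
    have h2 : (evw Γ (aw 0))⁻¹ * r Q 1 * evw Γ (aw 0) * (r Q 1)⁻¹ ∈ RS := by
      have := RS.mul_mem (conj_RS (PP.inv_mem (e_mem_PP (aw 0))) hr) (RS.inv_mem hr)
      rwa [inv_inv] at this
    have h3 := h _ ⟨h1, h2⟩
    have h4 : π W0 ((evw Γ (aw 0))⁻¹ * r Q 1 * evw Γ (aw 0) * (r Q 1)⁻¹) = 1 := by
      rcases h3 with h3 | h3 <;> rw [h3]
      · exact π_one
      · exact π_w W0_sq
    rw [hc, π_mul (comm_mul (comm_r _) (comm_sgn c)) (comm_inv (comm_r 1)), π_inv (comm_r 1),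
      π_mul (comm_r _) (comm_sgn c), π_r, π_r, mul_inv_eq_one] at h4
    have h5 : π W0 (sgn0 c) = 1 := by
      cases c
      · exact π_one
      · exact π_w W0_sq
    rw [h5, mul_one] at h4
    have h6 := hyp.toBas.r_inj (app_lt _ _) (by norm_num) h4
    revert h6
    decide +kernel
  · rw [← h]; exact inf_le_left

theorem MM_perfect : ⁅MM, MM⁆ = MM := by
  apply le_antisymm
  · exact comm_MM_le
  rintro _ ⟨u, hu, rfl⟩
  have hu' : ρ u ∈ LL := hu
  have h1 : (⁅LL.comap ρ, LL.comap ρ⁆).map ρ = LL := by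
    rw [Subgroup.map_commutator, Subgroup.map_comap_eq_self_of_surjective ρ_surj, LL_perfect]
  rw [← h1] at hu'
  obtain ⟨v, hv, hvu⟩ := hu'
  have h2 : v⁻¹ * u ∈ ρ.ker := by
    rw [MonoidHom.mem_ker, map_mul, map_inv, hvu, inv_mul_cancel]
  have h3 : (PP.subtype (v⁻¹ * u)) ∈ RS := ⟨_, h2, rfl⟩
  have h4 : PP.subtype v ∈ ⁅MM, MM⁆ := by
    have : (⁅LL.comap ρ, LL.comap ρ⁆).map PP.subtype = ⁅MM, MM⁆ := by
      rw [Subgroup.map_commutator]; rfl
    rw [← this]
    exact ⟨v, hv, rfl⟩
  have h5 := Subgroup.mul_mem _ h4 (RS_le_comm h3)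
  rwa [← map_mul, mul_inv_cancel_left] at h5

/-- `P = M ∪ M c` -/
theorem PP_or {u : Cfsg.Spor.HN} (hu : u ∈ PP) : u ∈ MM ∨ u * (evw Γ [1])⁻¹ ∈ MM := by
  rcases LL_or (ρ ⟨u, hu⟩) with h | ⟨y, hy, h⟩
  · exact Or.inl (mem_MM.2 ⟨hu, h⟩)
  · refine Or.inr (mem_MM.2 ⟨PP.mul_mem hu (PP.inv_mem (e_mem_PP _)), ?_⟩)
    have : (⟨u * (evw Γ [1])⁻¹, PP.mul_mem hu (PP.inv_mem (e_mem_PP _))⟩ : PP) =
        ⟨u, hu⟩ * ⟨evw Γ [1], e_mem_PP _⟩⁻¹ := rfl
    rw [this, map_mul, map_inv, h, ρ_e, mul_inv_cancel_right]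
    exact hy

theorem c_notMem_MM : evw Γ [1] ∉ MM := by
  intro h
  obtain ⟨h1, h2⟩ := mem_MM.1 h
  rw [ρ_e] at h2
  exact e1_notMem h2

theorem relIndex_MM : MM.relIndex PP = 2 := by
  have h1 : MM.subgroupOf PP = LL.comap ρ := by
    ext u
    rw [Subgroup.mem_subgroupOf]
    constructor
    · intro h
      obtain ⟨_, h2⟩ := mem_MM.1 h
      exact h2
    · intro h
      exact mem_MM.2 ⟨u.2, h⟩
  rw [Subgroup.relIndex, h1, Subgroup.index_comap_of_surjective _ ρ_surj, index_LL]

end Cfsg.Agent.KFacts.HN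

end

-- merged: Cfsg.Agent.KFacts.HN.Cases
section

/-!
# Normal subgroups of `P = C(W0)` and `M`; orders
-/

set_option autoImplicit false

namespace Cfsg.Agent.KFacts.HN

open Cfsg.Agent.HN Cfsg.Agent.HN.Pres Cfsg.Agent.HN.P1408 Cfsg.Agent.HN.H0Basic Cfsg.Agent.HN.XMat
open Cfsg.Agent.HN.XStruct Cfsg.Agent.HN.XWords Cfsg.Agent.HN.XQuot Cfsg.Agent.HN.XInst
open Cfsg.Agent.Lib.AltCarmichael (cyc cyc_mem)

theorem LL_le_of_normal {N : Subgroup Lq} [hn : N.Normal] (hN : N ≠ ⊥) : LL ≤ N := by
  have h1 : AA ≤ N ∧ BB ≤ N := by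
    rcases A_or_B_le (N := N) (fun l _ n h => hn.conj_mem n h l) hN with h | h
    · refine ⟨h, ?_⟩
      rintro _ ⟨a, rfl⟩
      rw [φB_apply]
      have := hn.conj_mem _ (h ⟨a, rfl⟩) (e [1])⁻¹
      rwa [inv_inv] at this
    · refine ⟨?_, h⟩
      rintro _ ⟨a, rfl⟩
      have h2 : φA a = e [1] * φB a * (e [1])⁻¹ := by rw [φB_apply]; group
      rw [h2]
      exact hn.conj_mem _ (h ⟨a, rfl⟩) _
  exact LL_le h1.1 h1.2

/-- image of a subgroup in `(A5 × A5).2` -/
noncomputable def img (X : Subgroup Cfsg.Spor.HN) : Subgroup Lq := (X.subgroupOf PP).map ρ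

theorem mem_img {X : Subgroup Cfsg.Spor.HN} {y : Lq} : y ∈ img X ↔ ∃ (x : Cfsg.Spor.HN) (h : x ∈ PP), x ∈ X ∧ ρ ⟨x, h⟩ = y := by
  constructor
  · rintro ⟨u, hu, rfl⟩
    exact ⟨u, u.2, hu, rfl⟩
  · rintro ⟨x, h, hx, rfl⟩
    exact ⟨⟨x, h⟩, hx, rfl⟩

theorem le_RS_of_img {X : Subgroup Cfsg.Spor.HN} (hX : X ≤ PP) (h : img X = ⊥) : X ≤ RS := by
  intro x hx
  have : ρ ⟨x, hX hx⟩ ∈ img X := mem_img.2 ⟨x, hX hx, hx, rfl⟩
  rw [h, Subgroup.mem_bot] at this
  exact ⟨⟨x, hX hx⟩, this, rfl⟩

/-- an element acting as a 3-cycle does not centralise `R/⟨W0⟩` -/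
theorem not_triv {x : Cfsg.Spor.HN} (hx : x ∈ PP) {w : List ℕ} (hw : ρ ⟨x, hx⟩ = e w) {m : ℕ} (hm : m < 256)
    (hne : app (mw w) m ≠ m) : ¬ (x⁻¹ * r Q m * x * (r Q m)⁻¹ = 1 ∨ x⁻¹ * r Q m * x * (r Q m)⁻¹ = W0) := by
  intro h3
  have hP : Acts k (π W0 x) (mw w) := by
    rw [ρ_apply] at hw
    have h4 : (π W0 x)⁻¹ * evw γ w ∈ Rk := QuotientGroup.eq.1 hw
    have h0 := normal_Rk.conj_mem _ (Rk.inv_mem h4) (π W0 x)
    obtain ⟨j, hj, h1⟩ := mem_Rk.1 h0
    have h5 : π W0 x = r k j * evw γ w := by rw [← h1]; group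
    rw [h5]
    exact hyp.toBas.acts_rmul (hyp.toBas.acts_evw w) j
  obtain ⟨c, hc⟩ := r_conj hx hP m
  have h4 : π W0 (x⁻¹ * r Q m * x * (r Q m)⁻¹) = 1 := by
    rcases h3 with h3 | h3 <;> rw [h3]
    · exact π_one
    · exact π_w W0_sq
  rw [hc, π_mul (comm_mul (comm_r _) (comm_sgn c)) (comm_inv (comm_r m)), π_inv (comm_r m),
    π_mul (comm_r _) (comm_sgn c), π_r, π_r, mul_inv_eq_one] at h4
  have h5 : π W0 (sgn0 c) = 1 := by
    cases c
    · exact π_one
    · exact π_w W0_sq
  rw [h5, mul_one] at h4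
  exact hne (hyp.toBas.r_inj (app_lt _ _) hm h4)

/-- **normal subgroups of `P`** -/
theorem normal_cases {X : Subgroup Cfsg.Spor.HN} (hX : X ≤ PP) (hn : ∀ u ∈ PP, ∀ x ∈ X, u * x * u⁻¹ ∈ X) :
    X ≤ RS ∨ MM ≤ X := by
  by_cases h0 : img X = ⊥
  · exact Or.inl (le_RS_of_img hX h0)
  right
  have hnor : (img X).Normal := by
    refine ⟨fun y hy g => ?_⟩
    obtain ⟨x, h, hx, rfl⟩ := mem_img.1 hy
    obtain ⟨u, rfl⟩ := ρ_surj g
    exact mem_img.2 ⟨_, PP.mul_mem (PP.mul_mem u.2 h) (PP.inv_mem u.2), hn _ u.2 _ hx, rfl⟩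
  have h1 : LL ≤ img X := LL_le_of_normal h0
  -- `R ≤ X`
  have hR : RS ≤ X := by
    rcases irr (N := X ⊓ RS) inf_le_right
      (fun u hu x hx => ⟨hn u (MM_le_PP hu) x hx.1, conj_RS (MM_le_PP hu) hx.2⟩) with h | h
    · exfalso
      obtain ⟨x, hxP, hxX, hx⟩ := mem_img.1 (h1 (show e (aw 0) ∈ LL by
        rw [← φA_cyc (by norm_num)]; exact A_mem _))
      refine not_triv hxP hx (m := 1) (by norm_num) (by decide +kernel) (h _ ⟨?_, ?_⟩)
      · have h2 := hn _ (r_mem_PP 1) _ hxX
        have h3 := X.mul_mem (X.inv_mem hxX) h2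
        rwa [← mul_assoc, ← mul_assoc] at h3
      · have h2 := conj_RS (PP.inv_mem hxP) (r_mem_RS (m := 1) (by norm_num))
        rw [inv_inv] at h2
        exact RS.mul_mem h2 (RS.inv_mem (r_mem_RS (by norm_num)))
    · rw [← h]; exact inf_le_left
  intro x hx
  obtain ⟨hxP, hxL⟩ := mem_MM.1 hx
  obtain ⟨y, hyP, hyX, hy⟩ := mem_img.1 (h1 hxL)
  have h2 : y⁻¹ * x ∈ RS := by
    refine ⟨⟨y, hyP⟩⁻¹ * ⟨x, hxP⟩, ?_, rfl⟩
    change ρ _ = 1
    rw [map_mul, map_inv, hy, inv_mul_cancel]
  have h3 := X.mul_mem hyX (hR h2)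
  rwa [mul_inv_cancel_left] at h3

/-- a 2-subgroup of `P` normalised by `M` lies in `R` -/
theorem two_group_le {X : Subgroup Cfsg.Spor.HN} (hX : X ≤ PP) (hn : ∀ u ∈ MM, ∀ x ∈ X, u * x * u⁻¹ ∈ X)
    (hp : IsPGroup 2 X) : X ≤ RS := by
  by_cases h0 : img X = ⊥
  · exact le_RS_of_img hX h0
  exfalso
  have hnor : ∀ l ∈ LL, ∀ y ∈ img X, l * y * l⁻¹ ∈ img X := by
    intro l hl y hy
    obtain ⟨x, h, hx, rfl⟩ := mem_img.1 hy
    obtain ⟨u, rfl⟩ := ρ_surj l
    exact mem_img.2 ⟨_, PP.mul_mem (PP.mul_mem u.2 h) (PP.inv_mem u.2), hn _ (mem_MM.2 ⟨u.2, hl⟩) _ hx, rfl⟩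
  have hpi : IsPGroup 2 (img X) := by
    rintro ⟨y, hy⟩
    obtain ⟨x, h, hx, rfl⟩ := mem_img.1 hy
    obtain ⟨j, hj⟩ := hp ⟨x, hx⟩
    refine ⟨j, Subtype.ext ?_⟩
    have h1 : x ^ 2 ^ j = 1 := congrArg Subtype.val hj
    change ρ ⟨x, h⟩ ^ 2 ^ j = 1
    rw [← map_pow]
    have : (⟨x, h⟩ : PP) ^ 2 ^ j = 1 := Subtype.ext h1
    rw [this, map_one]
  have h3 : ∀ φ : A5 →* Lq, Function.Injective φ → ¬ φ.range ≤ img X := by
    intro φ hφ hle
    set a : A5 := ⟨cyc 3 0, cyc_mem 3 0 (by norm_num)⟩
    have ha3 : a ^ 3 = 1 := Subtype.ext ((Lib.AltCarmichael.rel_cyc 3).cube 0 (by norm_num))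
    have ha1 : a ≠ 1 := by
      intro h
      apply aw0_ne
      rw [← φA_cyc (by norm_num)]
      change φA a = 1
      rw [h, map_one]
    obtain ⟨j, hj⟩ := hpi ⟨φ a, hle ⟨a, rfl⟩⟩
    have h4 : φ a ^ 2 ^ j = 1 := congrArg Subtype.val hj
    rw [← map_pow] at h4
    have h5 : a ^ 2 ^ j = 1 := hφ (by rw [h4, map_one])
    have h6 : orderOf a = 3 := orderOf_eq_prime ha3 ha1
    have h7 : 3 ∣ 2 ^ j := by rw [← h6]; exact orderOf_dvd_of_pow_eq_one h5
    have h8 := Nat.Prime.dvd_of_dvd_pow (by norm_num : Nat.Prime 3) h7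
    omega
  rcases A_or_B_le hnor h0 with h | h
  · exact h3 φA φA_inj h
  · exact h3 φB φB_inj h

end Cfsg.Agent.KFacts.HN

end

-- merged: Cfsg.Agent.KFacts.HN.Cards
section

/-!
# Orders of the subgroups `R ≤ M ≤ P = C(W0)` of the presented Harada-Norton group
-/

set_option autoImplicit false

namespace Cfsg.Agent.KFacts.HN

open Cfsg.Agent.HN Cfsg.Agent.HN.Pres Cfsg.Agent.HN.P1408 Cfsg.Agent.HN.H0Basic Cfsg.Agent.HN.XMat
open Cfsg.Agent.HN.XStruct Cfsg.Agent.HN.XWords Cfsg.Agent.HN.XQuot Cfsg.Agent.HN.XInst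

theorem π_r_sgn (m : ℕ) (b : Bool) : π W0 (r Q m * sgn0 b) = r k m := by
  rw [← π_r]
  cases b
  · rw [show sgn0 false = 1 from rfl, mul_one]
  · exact π_mul_w W0_sq (comm_r m)

theorem r_sgn_inj {m m' : ℕ} (hm : m < 256) (hm' : m' < 256) {b b' : Bool}
    (h : r Q m * sgn0 b = r Q m' * sgn0 b') : m = m' ∧ b = b' := by
  have h1 : m = m' := by
    apply hyp.toBas.r_inj hm hm'
    rw [← π_r_sgn m b, h, π_r_sgn]
  subst h1
  refine ⟨rfl, ?_⟩
  have h2 := mul_left_cancel h
  cases b <;> cases b'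
  · rfl
  · exact absurd h2.symm W0_ne
  · exact absurd h2 W0_ne
  · rfl

theorem card_RS : Nat.card RS = 512 := by
  have e : Fin 256 × Bool ≃ RS := Equiv.ofBijective
    (fun y => (⟨r Q y.1 * sgn0 y.2, mem_RS.2 ⟨y.1, y.1.2, y.2, rfl⟩⟩ : RS)) (by
      constructor
      · rintro ⟨m, b⟩ ⟨m', b'⟩ h
        obtain ⟨h1, h2⟩ := r_sgn_inj m.2 m'.2 (congrArg Subtype.val h)
        exact Prod.ext (Fin.ext h1) h2
      · rintro ⟨x, hx⟩
        obtain ⟨m, hm, b, rfl⟩ := mem_RS.1 hx
        exact ⟨(⟨m, hm⟩, b), rfl⟩)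
  rw [← Nat.card_congr e, Nat.card_prod, Nat.card_eq_fintype_card, Nat.card_eq_fintype_card,
    Fintype.card_fin, Fintype.card_bool]

theorem card_A5 : Nat.card A5 = 60 := by
  rw [nat_card_alternatingGroup, Nat.card_eq_fintype_card, Fintype.card_fin]
  rfl

theorem card_LL : Nat.card LL = 3600 := by
  have hinj : Function.Injective φ2 := by
    rintro ⟨a, b⟩ ⟨a', b'⟩ h
    obtain ⟨h1, h2⟩ := φ2_inj h
    exact Prod.ext h1 h2
  have e : A5 × A5 ≃* LL := MonoidHom.ofInjective hinj
  rw [← Nat.card_congr e.toEquiv, Nat.card_prod, card_A5]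

theorem card_Lq : Nat.card Lq = 7200 := by
  rw [← LL.card_mul_index, card_LL, index_LL]

theorem card_ker : Nat.card ρ.ker = 512 := by
  rw [← card_RS]
  exact Nat.card_congr (ρ.ker.equivMapOfInjective PP.subtype PP.subtype_injective).toEquiv

/-- `|C(W0)| = 2^14 · 225` -/
theorem card_PP : Nat.card PP = 3686400 := by
  have h1 : Nat.card ρ.range = 7200 := by
    rw [MonoidHom.range_eq_top.2 ρ_surj, Subgroup.card_top, card_Lq]
  rw [← ρ.ker.card_mul_index, card_ker, Subgroup.index_ker, h1]

theorem card_MM : Nat.card MM = 1843200 := by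
  have h1 : Nat.card MM = Nat.card (LL.comap ρ) :=
    (Nat.card_congr ((LL.comap ρ).equivMapOfInjective PP.subtype PP.subtype_injective).toEquiv).symm
  have h2 := (LL.comap ρ).card_mul_index
  rw [Subgroup.index_comap_of_surjective _ ρ_surj, index_LL, card_PP, ← h1] at h2
  omega

end Cfsg.Agent.KFacts.HN

end
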